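import Cfsg.Agent.Lib.MaxSub.Sp8.MinusSplit


/-!
`O₄ ⊗ Sp₂` , minus type: an element fixing an anisotropic plane pointwise is pure.
-/
set_option autoImplicit false
set_option linter.unusedSectionVars false
set_option linter.unusedSimpArgs false
set_option linter.unusedVariables false
set_option linter.style.haveILetI false

namespace CfsgLib.MaxSub.TForm

open Module

variable {F A B V : Type*} [Field F] [AddCommGroup A] [Module F A] [AddCommGroup B] [Module F B]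
  [AddCommGroup V] [Module F V]

namespace SpData

variable {T : Sys F A B V (RingHom.id F)} {H : Subgroup (V ≃ₗ[F] V)}
variable [Finite F] [FiniteDimensional F A] [FiniteDimensional F B] [FiniteDimensional F V]

/-- the involution fixing exactly `⟨δ₀, a⟩ ⊗ B` -/
theorem exists_axisInvol (D : SpData T H) (hA : finrank F A = 4) {δ₀ a : A} (h₀ : T.fA δ₀ δ₀ ≠ 0)
    (ha : T.fA a a ≠ 0) (ha₀ : T.fA a δ₀ = 0) :
    ∃ r ∈ H, (∀ v, r (r v) = v) ∧ (∀ b, r (T.tau δ₀ b) = T.tau δ₀ b) ∧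
      (∀ b, r (T.tau a b) = T.tau a b) ∧
      (∀ v, r v = v → InS T (Submodule.span F ({δ₀, a} : Set A)) v) ∧
      ∀ p, T.fA p δ₀ = 0 → T.fA p a = 0 → ∀ b, r (T.tau p b) = -T.tau p b := by
  have h0a : T.fA δ₀ a = 0 := D.good.A_flip_zero ha₀
  have hL := D.ndeg_pair h₀ ha h0a
  have hL2 := D.finrank_pair h₀ ha h0a
  have hm₀ : δ₀ ∈ Submodule.span F ({δ₀, a} : Set A) := Submodule.subset_span (Set.mem_insert _ _)
  have hma : a ∈ Submodule.span F ({δ₀, a} : Set A) :=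
    Submodule.subset_span (Set.mem_insert_of_mem _ rfl)
  obtain ⟨p₁, p₂, h1, h2, hp1, hp2, h12, hsplit⟩ := D.basis_two (D.ndeg_perp hL) (by
    have := D.finrank_perpS hL; omega)
  obtain ⟨z, hz, hzz, hzfix, hfixz, -, hn1, hn2⟩ := D.exists_pInvol hp1 hp2 h12
  refine ⟨z, hz, hzz, fun b => hzfix _ ?_ ?_, fun b => hzfix _ ?_ ?_,
    fun v hv => D.inS_of_perp hL fun p hp => ?_, fun p hp0 hpa b => ?_⟩
  · rw [D.good.C'_tau, D.good.A_flip_zero (h1 δ₀ hm₀), zero_smul]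
  · rw [D.good.C'_tau, D.good.A_flip_zero (h2 δ₀ hm₀), zero_smul]
  · rw [D.good.C'_tau, D.good.A_flip_zero (h1 a hma), zero_smul]
  · rw [D.good.C'_tau, D.good.A_flip_zero (h2 a hma), zero_smul]
  · obtain ⟨e1, e2⟩ := hfixz v hv
    obtain ⟨r, s, rfl⟩ := hsplit p hp
    exact D.C'_add_smul e1 e2 r s
  · obtain ⟨r, s, rfl⟩ := hsplit p (by
      intro l hl
      obtain ⟨x, y, rfl⟩ := Submodule.mem_span_pair.1 hl
      simp [hp0, hpa])
    simp only [map_add, map_smul, LinearMap.add_apply, LinearMap.smul_apply, hn1, hn2]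
    module

/-- a vector of `⟨δ₀, a⟩ ⊗ B` orthogonal to `δ₀ ⊗ B` lies in `a ⊗ B` -/
theorem pure_of_pair (D : SpData T H) {δ₀ a : A} (h₀ : T.fA δ₀ δ₀ ≠ 0) (ha : a ≠ 0)
    (ha₀ : T.fA a δ₀ = 0) {v : V} (hv : InS T (Submodule.span F ({δ₀, a} : Set A)) v)
    (h : T.C' δ₀ v = 0) : ∃ b, v = T.tau a b :=
  D.pure_of_inS_line ha fun w => by
    obtain ⟨p, q, hpq⟩ := Submodule.mem_span_pair.1 (hv w)
    have e := D.fA_C v δ₀ w
    rw [h, map_zero, LinearMap.zero_apply, ← hpq] at e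
    simp only [map_add, map_smul, LinearMap.add_apply, LinearMap.smul_apply, smul_eq_mul, ha₀, mul_zero,
      add_zero, mul_eq_zero, or_iff_left h₀] at e
    rw [← hpq, e, zero_smul, zero_add]
    exact Submodule.smul_mem _ _ (Submodule.mem_span_singleton_self a)

/-- three planes do not map into two -/
theorem no_three (D : SpData T H) (hB : finrank F B = 2) {d : Fin 3 → A} (hd : ∀ i, T.fA (d i) (d i) ≠ 0)
    (hd' : ∀ i j, i ≠ j → T.fA (d i) (d j) = 0) {p q : A} (hp : T.fA p p ≠ 0) (hq : T.fA q q ≠ 0)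
    (hpq : T.fA p q = 0) (k : V ≃ₗ[F] V)
    (hin : ∀ i b, InS T (Submodule.span F ({p, q} : Set A)) (k (T.tau (d i) b))) : False := by
  classical
  let J : (Fin 3 → B) →ₗ[F] V := ∑ i, T.tau (d i) ∘ₗ LinearMap.proj i
  have hJ : ∀ u, J u = ∑ i, T.tau (d i) (u i) := fun u => by simp [J]
  have hJinj : Function.Injective J := by
    refine (injective_iff_map_eq_zero J).2 fun u hu => funext fun j => ?_
    have h := congrArg (T.C' (d j)) hu
    rw [hJ, map_sum, map_zero, Finset.sum_eq_single j (fun i _ hij => by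
      rw [D.good.C'_tau, hd' i j hij, zero_smul]) (fun h => absurd (Finset.mem_univ j) h),
      D.good.C'_tau, smul_eq_zero, or_iff_right (hd j)] at h
    exact h
  let Ψ : (Fin 3 → B) →ₗ[F] B × B :=
    ((T.C' p).prod (T.C' q)) ∘ₗ (k : V →ₗ[F] V) ∘ₗ J
  have hΨ : Function.Injective Ψ := by
    refine (injective_iff_map_eq_zero Ψ).2 fun u hu => ?_
    have e : T.C' p (k (J u)) = 0 ∧ T.C' q (k (J u)) = 0 := Prod.ext_iff.1 hu
    have hkin : InS T (Submodule.span F ({p, q} : Set A)) (k (J u)) := fun w => by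
      rw [hJ, map_sum, map_sum]
      exact Submodule.sum_mem _ fun i _ => hin i _ w
    have h0 : k (J u) = 0 := D.eq_zero_of_inS (D.ndeg_pair hp hq hpq) hkin fun w l hl => by
      obtain ⟨r, s, rfl⟩ := Submodule.mem_span_pair.1 hl
      rw [map_add, map_smul, map_smul, D.fA_C, D.fA_C, e.1, e.2]
      simp
    exact hJinj (by rw [map_zero]; exact k.map_eq_zero_iff.1 h0)
  have h := LinearMap.finrank_le_finrank_of_injective hΨ
  rw [Module.finrank_pi_fintype, Module.finrank_prod, Fin.sum_univ_three, hB] at h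
  omega

/-- the conjugate of an axis involution makes the image plane pure as soon as it preserves a line -/
theorem plane_of_axis_four (D : SpData T H) (hgood : ∀ L, NDeg T L → finrank F L = 2 → Good T H L)
    (hm : Minus T) (hA : finrank F A = 4) (hB : finrank F B = 2) {δ₀ : A} (h₀ : T.fA δ₀ δ₀ ≠ 0)
    {h : V ≃ₗ[F] V} (hh : h ∈ H) (hh₀ : ∀ b, h (T.tau δ₀ b) = T.tau δ₀ b) {a : A} (ha : T.fA a a ≠ 0)
    (ha₀ : T.fA a δ₀ = 0) {r : V ≃ₗ[F] V} (hr : r ∈ H) (hr2 : ∀ v, r (r v) = v)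
    (hr₀ : ∀ b, r (T.tau δ₀ b) = T.tau δ₀ b) (hra : ∀ b, r (T.tau a b) = T.tau a b)
    (hrof : ∀ v, r v = v → InS T (Submodule.span F ({δ₀, a} : Set A)) v)
    {c : A} (hc : T.fA c c ≠ 0) (hc₀ : T.fA c δ₀ = 0)
    (hy : ∀ b, ∃ b', h (r (h⁻¹ (T.tau c b))) = T.tau c b') : PlaneP T h a := by
  have hT := D.good
  have ha0 : a ≠ 0 := fun e => ha (by simp [e])
  have hi₀ : ∀ b, h⁻¹ (T.tau δ₀ b) = T.tau δ₀ b := fun b => h.injective (by rw [ap_inv, hh₀])
  set y := h * r * h⁻¹ with hydef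
  have hyH : y ∈ H := mul_mem (mul_mem hh hr) (inv_mem hh)
  have hy₀ : ∀ b, y (T.tau δ₀ b) = T.tau δ₀ b := fun b => by
    show h (r (h⁻¹ (T.tau δ₀ b))) = _
    rw [hi₀, hr₀, hh₀]
  obtain ⟨M, hM, -, -, hCM⟩ := D.invol_pure_four hm hA hB hyH (fun v => by
    show h (r (h⁻¹ (h (r (h⁻¹ v))))) = v
    rw [inv_ap', hr2, ap_inv]) (D.kron_of_pair hgood hm hA h₀ hc (hT.A_flip_zero hc₀) hyH
      (fun b => ⟨b, hy₀ b⟩) hy)
  haveI := Module.nontrivial_of_finrank_pos (R := F) (M := B) (by omega)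
  obtain ⟨b₀, hb₀⟩ := exists_ne (0 : B)
  obtain ⟨w₀, hw₀⟩ : ∃ w, T.C w (h (T.tau a b₀)) ≠ 0 := by
    by_contra hn
    simp only [not_exists, not_not] at hn
    have h0 := hT.C_nondeg hn
    rw [LinearEquiv.map_eq_zero_iff, ← map_zero (T.tau a)] at h0
    exact hb₀ (hT.tau_right_inj ha0 h0)
  set u := T.C w₀ (h (T.tau a b₀)) with hu
  have hMu : M u = u := by
    rw [hu, ← hCM]
    congr 1
    show h (r (h⁻¹ (h (T.tau a b₀)))) = _
    rw [inv_ap', hra]
  have hu₀ : T.fA u δ₀ = 0 := by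
    rw [hu, ← hT.form_C, ← hh₀, D.isom h hh, hT.form_tau, ha₀, zero_mul]
  refine D.plane_of_back ha hw₀ fun b => D.pure_of_pair h₀ ha0 ha₀ (hrof _ (h.injective ?_)) ?_
  · rw [ap_inv]
    show y (T.tau u b) = _
    rw [hM, hMu]
  · refine hT.nondegB _ fun w => ?_
    rw [← hT.form_C', ← D.isom h hh, ap_inv, hh₀, hT.form_tau, hu₀, zero_mul]

/-- an isometric involution fixing `δ₀` and some vector orthogonal to it has an axis orthogonal to it -/
theorem axis_four (D : SpData T H) (hA : finrank F A = 4) {δ₀ : A} (h₀ : T.fA δ₀ δ₀ ≠ 0)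
    {M : A →ₗ[F] A} (hiso : ∀ a a', T.fA (M a) (M a') = T.fA a a') (h2 : ∀ a, M (M a) = a)
    (hM₀ : M δ₀ = δ₀) (hp : ∃ a, M a ≠ a) (hu : ∃ u, T.fA u δ₀ = 0 ∧ u ≠ 0 ∧ M u = u) :
    ∃ (c : A) (ε : F), T.fA c c ≠ 0 ∧ T.fA c δ₀ = 0 ∧ M c = ε • c ∧
      ∀ x, T.fA x δ₀ = 0 → M x = ε • x → x ∈ Submodule.span F {c} := by
  set L := perpS T (Submodule.span F {δ₀}) with hLdef
  have hL : NDeg T L := D.ndeg_perp (D.ndeg_line h₀)
  have hL3 : finrank F L = 3 := by
    have := D.finrank_perpS (D.ndeg_line h₀)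
    rw [finrank_span_singleton (fun e => h₀ (by simp [e]))] at this
    rw [hLdef]; omega
  let E : F → Submodule F A := fun ε => LinearMap.ker (M - ε • LinearMap.id) ⊓ L
  have hE : ∀ ε x, x ∈ E ε ↔ M x = ε • x ∧ T.fA x δ₀ = 0 := fun ε x => by
    show (M - ε • (LinearMap.id : A →ₗ[F] A)) x = 0 ∧ x ∈ L ↔ _
    rw [hLdef, mem_perpS_line]
    simp [sub_eq_zero]
  have hM₀' : ∀ x, T.fA (M x) δ₀ = T.fA x δ₀ := fun x => by
    conv_lhs => rw [← hM₀]
    exact hiso x δ₀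
  have hdis : E 1 ⊓ E (-1) = ⊥ := (Submodule.eq_bot_iff _).2 fun x hx => by
    have e1 := ((hE _ _).1 hx.1).1
    have e2 := ((hE _ _).1 hx.2).1
    rw [e1] at e2
    have : (2 : F) • x = 0 := by linear_combination (norm := module) e2
    exact (smul_eq_zero.1 this).resolve_left D.two
  have hdec : ∀ x ∈ L, ∃ p ∈ E 1, ∃ n ∈ E (-1), x = p + n := by
    intro x hx
    have hx₀ : T.fA x δ₀ = 0 := mem_perpS_line.1 hx
    refine ⟨(2 : F)⁻¹ • (x + M x), Submodule.smul_mem _ _ ((hE _ _).2 ⟨?_, ?_⟩),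
      (2 : F)⁻¹ • (x - M x), Submodule.smul_mem _ _ ((hE _ _).2 ⟨?_, ?_⟩), ?_⟩
    · rw [map_add, h2, one_smul, add_comm]
    · simp [hM₀', hx₀]
    · rw [map_sub, h2, neg_one_smul, neg_sub]
    · simp [hM₀', hx₀]
    · have := D.two
      match_scalars <;> field_simp <;> ring
  have hsup : E 1 ⊔ E (-1) = L := le_antisymm (sup_le inf_le_right inf_le_right) fun x hx => by
    obtain ⟨p, hp, n, hn, rfl⟩ := hdec x hx
    exact Submodule.add_mem_sup hp hn
  have hs := Submodule.finrank_sup_add_finrank_inf_eq (E 1) (E (-1))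
  rw [hdis, finrank_bot, hsup, hL3] at hs
  have hn : 0 < finrank F (E (-1)) := Nat.pos_of_ne_zero fun h0 => by
    obtain ⟨a, ha⟩ := hp
    have hmem : a - M a ∈ E (-1) := (hE _ _).2 ⟨by rw [map_sub, h2, neg_one_smul, neg_sub],
      by simp [hM₀']⟩
    rw [Submodule.finrank_eq_zero.1 h0, Submodule.mem_bot, sub_eq_zero] at hmem
    exact ha hmem.symm
  have hp' : 0 < finrank F (E 1) := Nat.pos_of_ne_zero fun h0 => by
    obtain ⟨u, hu₀, hu0, hMu⟩ := hu
    have hmem : u ∈ E 1 := (hE _ _).2 ⟨by rw [hMu, one_smul], hu₀⟩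
    rw [Submodule.finrank_eq_zero.1 h0, Submodule.mem_bot] at hmem
    exact hu0 hmem
  have aux : ∀ ε ε' : F, (ε = 1 ∧ ε' = -1 ∨ ε = -1 ∧ ε' = 1) → finrank F (E ε) = 1 →
      ∃ (c : A) (ε : F), T.fA c c ≠ 0 ∧ T.fA c δ₀ = 0 ∧ M c = ε • c ∧
        ∀ x, T.fA x δ₀ = 0 → M x = ε • x → x ∈ Submodule.span F {c} := by
    intro ε ε' hεε h1
    obtain ⟨c, hc, hc0⟩ := Submodule.exists_mem_ne_zero_of_ne_bot (p := E ε) fun e => by
      rw [e, finrank_bot] at h1; omega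
    have heq : Submodule.span F {c} = E ε := Submodule.eq_of_le_of_finrank_le
      ((Submodule.span_singleton_le_iff_mem _ _).2 hc) (by rw [finrank_span_singleton hc0]; omega)
    refine ⟨c, ε, fun hcc => hc0 (hL c hc.2 fun y hy => ?_), ((hE ε c).1 hc).2, ((hE ε c).1 hc).1,
      fun x hx hx' => heq.symm ▸ (hE ε x).2 ⟨hx', hx⟩⟩
    obtain ⟨p, hp, n, hn, rfl⟩ := hdec y hy
    have horth : ∀ q ∈ E ε', T.fA c q = 0 := fun q hq => by
      have h := hiso c q
      rw [((hE ε c).1 hc).1, ((hE _ _).1 hq).1] at h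
      simp only [map_smul, LinearMap.smul_apply, smul_eq_mul] at h
      rcases hεε with ⟨rfl, rfl⟩ | ⟨rfl, rfl⟩ <;>
        exact (mul_eq_zero.1 (show (2 : F) * T.fA c q = 0 by linear_combination -h)).resolve_left D.two
    have hsame : ∀ q ∈ E ε, T.fA c q = 0 := fun q hq => by
      rw [← heq] at hq
      obtain ⟨k, rfl⟩ := Submodule.mem_span_singleton.1 hq
      rw [map_smul, hcc, smul_zero]
    rcases hεε with ⟨rfl, rfl⟩ | ⟨rfl, rfl⟩
    · rw [map_add, hsame p hp, horth n hn, add_zero]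
    · rw [map_add, horth p hp, hsame n hn, add_zero]
  by_cases h1 : finrank F (E 1) = 1
  · exact aux 1 (-1) (Or.inl ⟨rfl, rfl⟩) h1
  · exact aux (-1) 1 (Or.inr ⟨rfl, rfl⟩) (by omega)

set_option maxHeartbeats 1000000 in
/-- a vector of the plane of `a` landing in some `e⊥ ⊗ B` makes the image plane pure -/
theorem plane_of_fixed_four (D : SpData T H) (hgood : ∀ L, NDeg T L → finrank F L = 2 → Good T H L)
    (hm : Minus T) (hA : finrank F A = 4) (hB : finrank F B = 2) {δ₀ : A} (h₀ : T.fA δ₀ δ₀ ≠ 0)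
    {h : V ≃ₗ[F] V} (hh : h ∈ H) (hh₀ : ∀ b, h (T.tau δ₀ b) = T.tau δ₀ b) {a : A} (haa : T.fA a a ≠ 0)
    (ha₀ : T.fA a δ₀ = 0) {e : A} (hee : T.fA e e ≠ 0) (he₀ : T.fA e δ₀ = 0) {b : B} (hb : b ≠ 0)
    (hω : T.C' e (h (T.tau a b)) = 0) : PlaneP T h a := by
  classical
  haveI : Finite V := Module.finite_of_finite F
  haveI : Finite (V ≃ₗ[F] V) := Finite.of_injective _ DFunLike.coe_injective
  have hT := D.good
  have ha : a ≠ 0 := fun h0 => haa (by simp [h0])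
  have he : e ≠ 0 := fun h0 => hee (by simp [h0])
  have h0e : T.fA δ₀ e = 0 := hT.A_flip_zero he₀
  have h0a : T.fA δ₀ a = 0 := hT.A_flip_zero ha₀
  obtain ⟨r, hr, hr2, hr₀, hra, hrof, -⟩ := D.exists_axisInvol hA h₀ haa ha₀
  obtain ⟨x, hx, hxab, hxx⟩ := D.exists_iRefl hee
  set ω := h (T.tau a b) with hωdef
  have hω0 : ω ≠ 0 := fun h0 => by
    rw [hωdef, LinearEquiv.map_eq_zero_iff, ← map_zero (T.tau a)] at h0
    exact hb (hT.tau_right_inj ha h0)
  have hx2 : ∀ v, x (x v) = v := fun v => by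
    rw [hxx (x v), hxx v, map_sub (T.C' e), map_smul (T.C' e), hT.C'_tau, smul_smul,
      div_mul_cancel₀ _ hee, map_sub (T.tau e), map_smul (T.tau e)]
    module
  have hxfix : ∀ d, T.fA d e = 0 → ∀ c, x (T.tau d c) = T.tau d c := fun d hd c => by
    rw [hxx, hT.C'_tau, hd, zero_smul, map_zero, smul_zero, sub_zero]
  set y := h * r * h⁻¹ with hydef
  have hy2 : ∀ v, y (y v) = v := fun v => by
    show h (r (h⁻¹ (h (r (h⁻¹ v))))) = v
    rw [inv_ap', hr2, ap_inv]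
  have hxω : x ω = ω := by rw [hxx, hω, map_zero, smul_zero, sub_zero]
  have hyω : y ω = ω := by
    show h (r (h⁻¹ ω)) = ω
    rw [hωdef, inv_ap', hra]
  have hx₀ : ∀ c, x (T.tau δ₀ c) = T.tau δ₀ c := hxfix δ₀ h0e
  have hy₀ : ∀ c, y (T.tau δ₀ c) = T.tau δ₀ c := fun c => by
    show h (r (h⁻¹ (T.tau δ₀ c))) = _
    rw [show h⁻¹ (T.tau δ₀ c) = T.tau δ₀ c from h.injective (by rw [ap_inv, hh₀]), hr₀, hh₀]
  have hcl : ∀ w ∈ Subgroup.closure ({x, y} : Set (V ≃ₗ[F] V)), w ∈ H ∧ w ω = ω ∧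
      ∀ c, w (T.tau δ₀ c) = T.tau δ₀ c := by
    intro w hw
    induction hw using Subgroup.closure_induction with
    | mem z hz =>
      rcases hz with rfl | rfl
      exacts [⟨hx, hxω, hx₀⟩, ⟨mul_mem (mul_mem hh hr) (inv_mem hh), hyω, hy₀⟩]
    | one => exact ⟨one_mem _, rfl, fun _ => rfl⟩
    | mul u v _ _ hu hv => exact ⟨mul_mem hu.1 hv.1, by rw [LinearEquiv.mul_apply, hv.2.1, hu.2.1],
        fun c => by rw [LinearEquiv.mul_apply, hv.2.2, hu.2.2]⟩
    | inv u _ hu => exact ⟨inv_mem hu.1, u.injective (by rw [ap_inv, hu.2.1]),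
        fun c => u.injective (by rw [ap_inv, hu.2.2])⟩
  -- `x` fixes six dimensions, `y` four
  have hL2 := D.ndeg_pair h₀ hee h0e
  obtain ⟨d₁, d₂, hd₁, hd₂, hd₁', hd₂', h12, -⟩ := D.basis_two (D.ndeg_perp hL2) (by
    have := D.finrank_perpS hL2
    have := D.finrank_pair h₀ hee h0e
    omega)
  have m₀ : δ₀ ∈ Submodule.span F ({δ₀, e} : Set A) := Submodule.subset_span (Set.mem_insert _ _)
  have me : e ∈ Submodule.span F ({δ₀, e} : Set A) := Submodule.subset_span (Set.mem_insert_of_mem _ rfl)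
  have hnc : ∀ w ∈ Subgroup.closure ({x, y} : Set (V ≃ₗ[F] V)), w * x * w⁻¹ ≠ y := by
    intro w hw hwx
    refine D.no_three hB (d := ![δ₀, d₁, d₂]) (fun i => ?_) (fun i j hij => ?_) h₀ haa h0a (h⁻¹ * w)
      fun i c => hrof _ ?_
    · fin_cases i <;> simp [h₀, hd₁', hd₂']
    · fin_cases i <;> fin_cases j <;>
        simp_all [hd₁ δ₀ m₀, hd₂ δ₀ m₀, hT.A_flip_zero (hd₁ δ₀ m₀), hT.A_flip_zero (hd₂ δ₀ m₀),
          h12, hT.A_flip_zero h12]
    · show r (h⁻¹ (w (T.tau _ c))) = h⁻¹ (w (T.tau _ c))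
      apply h.injective
      rw [ap_inv]
      show y (w (T.tau _ c)) = _
      rw [← hwx, LinearEquiv.mul_apply, LinearEquiv.mul_apply, inv_ap', hxfix]
      fin_cases i <;> simp [h0e, hd₁ e me, hd₂ e me]
  obtain ⟨κ, hκc, hκ1, hκ2, hκx, hκy⟩ := exists_central_involution (LinearEquiv.ext hx2)
    (LinearEquiv.ext hy2) hnc
  obtain ⟨hκ, hκω, hκ₀⟩ := hcl κ hκc
  have hκe : ∀ c, ∃ c', κ (T.tau e c) = T.tau e c' := fun c => by
    have h1 : x (κ (T.tau e c)) = -κ (T.tau e c) := by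
      have h2 := LinearEquiv.congr_fun hκx.eq (T.tau e c)
      rw [LinearEquiv.mul_apply, LinearEquiv.mul_apply] at h2
      rw [← h2, ← map_neg κ, hxx, hT.C'_tau, map_smul, smul_smul, div_mul_cancel₀ _ hee]
      congr 1
      module
    refine ⟨(T.fA e e)⁻¹ • T.C' e (κ (T.tau e c)), ?_⟩
    rw [hxx] at h1
    apply smul_right_injective V D.two
    show (2 : F) • κ (T.tau e c) = (2 : F) • T.tau e _
    rw [map_smul, smul_smul, ← div_eq_mul_inv]
    linear_combination (norm := module) h1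
  obtain ⟨M, hM, hMiso, hM2, hCM⟩ := D.invol_pure_four hm hA hB hκ (LinearEquiv.congr_fun hκ2)
    (D.kron_of_pair hgood hm hA h₀ hee h0e hκ (fun c => ⟨c, hκ₀ c⟩) hκe)
  have hM₀ : M δ₀ = δ₀ := hT.tau_left_inj hb (by
    show T.tau (M δ₀) b = T.tau δ₀ b
    rw [← hM, hκ₀])
  obtain ⟨w₀, hw₀⟩ : ∃ w, T.C w ω ≠ 0 := by
    by_contra hn
    simp only [not_exists, not_not] at hn
    exact hω0 (hT.C_nondeg hn)
  obtain ⟨c, ε, hcc, hc₀, hMc, haxis⟩ := D.axis_four hA h₀ hMiso hM2 hM₀ (by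
      by_contra hn
      simp only [not_exists, not_not] at hn
      exact hκ1 (LinearEquiv.ext fun v => LinearMap.congr_fun
        (hT.ext_tau (f := (κ : V →ₗ[F] V)) (g := LinearMap.id) fun a' c => by
          show κ (T.tau a' c) = T.tau a' c
          rw [hM, hn]) v))
    ⟨T.C w₀ ω, by rw [← hT.form_C, hωdef, ← hh₀, D.isom h hh, hT.form_tau, ha₀, zero_mul], hw₀,
      by rw [← hCM, hκω]⟩
  refine D.plane_of_axis_four hgood hm hA hB h₀ hh hh₀ haa ha₀ hr hr2 hr₀ hra hrof hcc hc₀ fun c' => ?_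
  refine D.pure_of_inS_line (fun h0 => hcc (by simp [h0])) fun w => haxis _ ?_ ?_
  · rw [← hT.form_C]
    show T.form (y (T.tau c c')) (T.tau δ₀ w) = 0
    rw [← hy₀, D.isom y (mul_mem (mul_mem hh hr) (inv_mem hh)), hT.form_tau, hc₀, zero_mul]
  · show M (T.C w (y (T.tau c c'))) = ε • T.C w (y (T.tau c c'))
    have h1 : κ (y (T.tau c c')) = y (κ (T.tau c c')) := LinearEquiv.congr_fun hκy.eq _
    rw [← hCM, h1, hM, hMc, map_smul, LinearMap.smul_apply, map_smul, map_smul]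

/-- a subspace of dimension two contains an anisotropic vector -/
theorem aniso_of_two (D : SpData T H) (hm : Minus T) {S : Submodule F A} (h : 2 ≤ finrank F S) :
    ∃ x ∈ S, T.fA x x ≠ 0 := by
  obtain ⟨u, hu⟩ := exists_linearIndependent_of_le_finrank (R := F) (M := S) (n := 2) h
  have hu' := hu.map' S.subtype (Submodule.ker_subtype _)
  have hfr := finrank_span_eq_card hu'
  rw [Fintype.card_fin] at hfr
  obtain ⟨x, hx, hxx⟩ := hm _ hfr
  exact ⟨x, Submodule.span_le.2 (by rintro _ ⟨i, rfl⟩; exact (u i).2) hx, hxx⟩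

set_option maxHeartbeats 1000000 in
/-- some anisotropic plane has a pure image: anisotropic points outnumber singular ones -/
theorem exists_planeP_four (D : SpData T H) (hgood : ∀ L, NDeg T L → finrank F L = 2 → Good T H L)
    (hm : Minus T) (hA : finrank F A = 4) (hB : finrank F B = 2) (hq : 3 ≤ Nat.card F) {δ₀ : A}
    (h₀ : T.fA δ₀ δ₀ ≠ 0) {h : V ≃ₗ[F] V} (hh : h ∈ H) (hh₀ : ∀ b, h (T.tau δ₀ b) = T.tau δ₀ b) :
    ∃ a, T.fA a a ≠ 0 ∧ T.fA a δ₀ = 0 ∧ PlaneP T h a := by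
  classical
  cases nonempty_fintype F
  by_contra hno
  simp only [not_exists, not_and] at hno
  have hT := D.good
  haveI := Module.nontrivial_of_finrank_pos (R := F) (M := B) (by omega)
  obtain ⟨b, hb⟩ := exists_ne (0 : B)
  have hi₀ : ∀ c, h⁻¹ (T.tau δ₀ c) = T.tau δ₀ c := fun c => h.injective (by rw [ap_inv, hh₀])
  -- the image of `δ₀⊥ ⊗ b` lies in `δ₀⊥ ⊗ B`
  have himg : ∀ α, T.fA α δ₀ = 0 → ∀ w, T.fA (T.C w (h (T.tau α b))) δ₀ = 0 := fun α hα w => by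
    rw [← hT.form_C, ← hh₀, D.isom h hh, hT.form_tau, hα, zero_mul]
  have himg' : ∀ α u w, T.fA α δ₀ = 0 → h (T.tau α b) = T.tau u w → w ≠ 0 → T.fA u δ₀ = 0 := by
    intro α u w hα0 hα hw
    obtain ⟨e, he, he'⟩ := hT.exists_partner hw
    have h1 := himg α hα0 e
    rw [hα, hT.C_tau, he', map_smul, LinearMap.smul_apply, smul_eq_mul] at h1
    linear_combination -h1
  -- a pure vector of `h (δ₀⊥ ⊗ b)` has a singular first factor
  have P1 : ∀ α u w, T.fA α δ₀ = 0 → h (T.tau α b) = T.tau u w → w ≠ 0 → T.fA u u = 0 := by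
    intro α u w hα0 hα hw
    by_contra huu
    have hu₀ := himg' α u w hα0 hα hw
    obtain ⟨e, he, hee⟩ := D.aniso_of_two hm (S := perpA T ![δ₀, α]) (by
      have := le_finrank_perpA (T := T) ![δ₀, α]; omega)
    have he₀ : T.fA e δ₀ = 0 := mem_perpA.1 he 0
    have heα : T.fA e α = 0 := mem_perpA.1 he 1
    have hω : T.C' e ((h⁻¹ : V ≃ₗ[F] V) (T.tau u w)) = 0 := by
      rw [← hα, inv_ap', hT.C'_tau, hT.A_flip_zero heα, zero_smul]
    have hp := D.plane_of_fixed_four hgood hm hA hB h₀ (inv_mem hh) hi₀ huu hu₀ hee he₀ hw hω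
    obtain ⟨δ', f, hf, hδ'⟩ := D.exists_plane_map (inv_mem hh) huu hp
    refine hno δ' hδ' (D.plane_orth (inv_mem hh) (f' := LinearEquiv.refl F B) hf hi₀ hu₀)
      ⟨u, fun c => ⟨f.symm c, ?_⟩⟩
    conv_lhs => rw [← f.apply_symm_apply c, ← hf, ap_inv]
  have P2 : ∀ α e, T.fA α δ₀ = 0 → T.fA e δ₀ = 0 → T.fA e e ≠ 0 → T.C' e (h (T.tau α b)) = 0 →
      T.fA α α = 0 := fun α e hα0 he0 he h0 => by
    by_contra hαα
    exact hno α hαα hα0 (D.plane_of_fixed_four hgood hm hA hB h₀ hh hh₀ hαα hα0 he he0 hb h0)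
  have hne : ∀ α u w, α ≠ 0 → h (T.tau α b) = T.tau u w → u ≠ 0 ∧ w ≠ 0 := fun α u w hα0 hα => by
    have h1 : T.tau α b ≠ 0 := fun h0 => hb (hT.tau_right_inj hα0 (h0.trans (map_zero _).symm))
    constructor <;> rintro rfl <;> simp at hα <;> exact h1 hα
  -- all these first factors are orthogonal to one singular vector
  have hL := D.ndeg_perp (D.ndeg_line h₀)
  have hL3 : finrank F (perpS T (Submodule.span F {δ₀})) = 3 := by
    have := D.finrank_perpS (D.ndeg_line h₀)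
    rw [finrank_span_singleton (fun e => h₀ (by simp [e]))] at this
    omega
  obtain ⟨v₀, hv₀0, hv₀, hv₀δ, U1⟩ : ∃ v₀, v₀ ≠ 0 ∧ T.fA v₀ v₀ = 0 ∧ T.fA v₀ δ₀ = 0 ∧
      ∀ α u w, α ≠ 0 → T.fA α δ₀ = 0 → h (T.tau α b) = T.tau u w → T.fA u v₀ = 0 := by
    by_cases hex : ∃ α u w, α ≠ 0 ∧ T.fA α δ₀ = 0 ∧ h (T.tau α b) = T.tau u w
    · obtain ⟨α₁, u₁, w₁, hα₁, hα₁₀, h₁⟩ := hex
      obtain ⟨hu₁, hw₁⟩ := hne _ _ _ hα₁ h₁
      refine ⟨u₁, hu₁, P1 _ _ _ hα₁₀ h₁ hw₁, himg' _ _ _ hα₁₀ h₁ hw₁, fun α u w hα hα₀ hu => ?_⟩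
      obtain ⟨hu0, hw0⟩ := hne _ _ _ hα hu
      by_contra huu
      have hf := D.isom h hh (T.tau α b) (T.tau α₁ b)
      rw [hu, h₁, hT.form_tau, hT.form_tau, D.altB, mul_zero, mul_eq_zero] at hf
      obtain ⟨l, hl⟩ := D.eq_smul_of_B hB hw₁ (hf.resolve_left huu)
      have hl0 : l ≠ 0 := fun h0 => hw0 (by rw [← hl, h0, zero_smul])
      have hs := P1 (α + α₁) (l • u + u₁) w₁ (by simp [hα₀, hα₁₀]) (by
        rw [map_add, LinearMap.add_apply, map_add, hu, h₁, ← hl, map_add, LinearMap.add_apply,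
          map_smul, map_smul, LinearMap.smul_apply]) hw₁
      simp only [map_add, map_smul, LinearMap.add_apply, LinearMap.smul_apply, smul_eq_mul,
        P1 _ _ _ hα₀ hu hw0, P1 _ _ _ hα₁₀ h₁ hw₁, D.symA u u₁, mul_zero, add_zero, zero_add] at hs
      exact huu ((mul_eq_zero.1 (show (2 * l) * T.fA u u₁ = 0 by linear_combination hs)).resolve_left
        (mul_ne_zero D.two hl0))
    · obtain ⟨v₀, hv₀, -, -, h1, h2, -, -⟩ := D.hyp_in hL hL3.ge
      exact ⟨v₀, h1, h2, mem_perpS_line.1 hv₀, fun α u w h3 h5 h4 => absurd ⟨α, u, w, h3, h5, h4⟩ hex⟩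
  obtain ⟨v₁, hv₁, hv₁δ, h01, h10⟩ : ∃ v₁, T.fA v₁ v₁ = 0 ∧ T.fA v₁ δ₀ = 0 ∧ T.fA v₀ v₁ = 1 ∧
      T.fA v₁ v₀ = 1 := by
    obtain ⟨y, hy, hy'⟩ : ∃ y, T.fA y δ₀ = 0 ∧ T.fA v₀ y ≠ 0 := by
      by_contra hn
      simp only [not_exists, not_and, not_not] at hn
      exact hv₀0 (hL v₀ (mem_perpS_line.2 hv₀δ) fun y hy => hn y (mem_perpS_line.1 hy))
    set w := (T.fA v₀ y)⁻¹ • y with hw
    have h1 : T.fA v₀ w = 1 := by rw [hw, map_smul, smul_eq_mul, inv_mul_cancel₀ hy']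
    have h1' : T.fA w v₀ = 1 := by rw [D.symA v₀ w, h1]
    have hwδ : T.fA w δ₀ = 0 := by simp [hw, hy]
    refine ⟨w - (T.fA w w / 2) • v₀, ?_, by simp [hwδ, hv₀δ], by simp [h1, hv₀], by simp [h1', hv₀]⟩
    have := D.two
    simp only [map_sub, map_smul, LinearMap.sub_apply, LinearMap.smul_apply, smul_eq_mul, h1, h1', hv₀]
    field_simp
    ring
  have h0δ : T.fA δ₀ v₀ = 0 := hT.A_flip_zero hv₀δ
  have h1δ : T.fA δ₀ v₁ = 0 := hT.A_flip_zero hv₁δ
  -- coordinates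
  let φ : A →ₗ[F] F × F × F := (T.fA.flip δ₀).prod ((T.fA.flip v₀).prod (T.fA.flip v₁))
  have hφ : LinearMap.range φ = ⊤ := LinearMap.range_eq_top.2 fun t =>
    ⟨(t.1 / T.fA δ₀ δ₀) • δ₀ + t.2.1 • v₁ + t.2.2 • v₀, by
      simp [φ, hv₀, hv₁, h01, h10, hv₀δ, hv₁δ, h0δ, h1δ, h₀]⟩
  have hker : finrank F (LinearMap.ker φ) = 1 := by
    have := φ.finrank_range_add_finrank_ker
    rw [hφ, finrank_top, Module.finrank_prod, Module.finrank_prod, Module.finrank_self, hA] at this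
    omega
  obtain ⟨d, hdk, hd⟩ := Submodule.exists_mem_ne_zero_of_ne_bot (p := LinearMap.ker φ) fun e => by
    rw [e, finrank_bot] at hker; omega
  obtain ⟨hdδ, hd0, hd1⟩ : T.fA d δ₀ = 0 ∧ T.fA d v₀ = 0 ∧ T.fA d v₁ = 0 := by
    simpa [φ, Prod.ext_iff] using LinearMap.mem_ker.1 hdk
  have hspd : Submodule.span F {d} = LinearMap.ker φ := Submodule.eq_of_le_of_finrank_le
    ((Submodule.span_singleton_le_iff_mem _ _).2 hdk) (by rw [finrank_span_singleton hd, hker])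
  have hδd : T.fA δ₀ d = 0 := hT.A_flip_zero hdδ
  have h0d : T.fA v₀ d = 0 := hT.A_flip_zero hd0
  have h1d : T.fA v₁ d = 0 := hT.A_flip_zero hd1
  have hdd : T.fA d d ≠ 0 := fun hdd => hd (hT.nondegA d fun a => by
    set a' := a - (T.fA a δ₀ / T.fA δ₀ δ₀) • δ₀ - T.fA a v₁ • v₀ - T.fA a v₀ • v₁ with ha'
    have hmem : a' ∈ Submodule.span F {d} := by
      rw [hspd, LinearMap.mem_ker]
      simp [φ, ha', hv₀, hv₁, h01, h10, hv₀δ, hv₁δ, h0δ, h1δ, h₀]
    obtain ⟨k, hk⟩ := Submodule.mem_span_singleton.1 hmem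
    have h' : T.fA d a' = 0 := by rw [← hk, map_smul, hdd, smul_zero]
    simpa [ha', hd0, hd1, hdδ] using h')
  have hnd : ∀ x, T.fA x δ₀ = 0 → T.fA x v₀ = 0 → T.fA x d = 0 → T.fA x v₁ = 0 → x = 0 := by
    intro x eδ e0 ed e1
    have hmem : x ∈ Submodule.span F {d} := by
      rw [hspd, LinearMap.mem_ker]
      simp [φ, eδ, e0, e1]
    obtain ⟨k, rfl⟩ := Submodule.mem_span_singleton.1 hmem
    simp [hdd] at ed
    simp [ed]
  have hco : ∀ x, T.fA x δ₀ = 0 → x = T.fA x v₁ • v₀ + (T.fA x d / T.fA d d) • d + T.fA x v₀ • v₁ := fun x hx =>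
    sub_eq_zero.1 (hnd _ (by simp [hv₀δ, hdδ, hv₁δ, hx]) (by simp [hv₀, hd0, h10]) (by simp [h0d, h1d, hdd])
      (by simp [h01, hd1, hv₁]))
  have hQ : ∀ x, T.fA x δ₀ = 0 → T.fA x x = 2 * T.fA x v₁ * T.fA x v₀ + T.fA x d * T.fA x d / T.fA d d :=
    fun x hx => by
    conv_lhs => arg 2; rw [hco x hx]
    simp only [map_add, map_smul, smul_eq_mul]
    ring
  -- anisotropic points `t • v₀ + s • d + v₁`, indexed by their norm `r`
  let e : F × {r : F // r ≠ 0} → A := fun p =>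
    ((p.2.1 - T.fA d d * p.1 * p.1) / 2) • v₀ + p.1 • d + v₁
  have hee : ∀ p, T.fA (e p) (e p) = p.2.1 := fun p => by
    simp only [e, map_add, map_smul, LinearMap.add_apply, LinearMap.smul_apply, smul_eq_mul, hv₀, hv₁,
      h01, h10, hd0, hd1, h0d, h1d, mul_zero, add_zero, zero_add, mul_one]
    field_simp [D.two]
    ring
  have heδ : ∀ p, T.fA (e p) δ₀ = 0 := fun p => by simp [e, hv₀δ, hdδ, hv₁δ]
  have hexα : ∀ p, ∃ α : A, α ≠ 0 ∧ T.fA α δ₀ = 0 ∧ T.C' (e p) (h (T.tau α b)) = 0 := fun p => by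
    let Φ : perpS T (Submodule.span F {δ₀}) →ₗ[F] B :=
      T.C' (e p) ∘ₗ (h : V →ₗ[F] V) ∘ₗ T.tau.flip b ∘ₗ (perpS T (Submodule.span F {δ₀})).subtype
    obtain ⟨α, hα, hα0⟩ := Submodule.exists_mem_ne_zero_of_ne_bot (p := LinearMap.ker Φ) fun h0 => by
      have h1 := Φ.finrank_range_add_finrank_ker
      have h2 := Submodule.finrank_le (LinearMap.range Φ)
      rw [h0, finrank_bot] at h1
      omega
    exact ⟨α, fun e0 => hα0 (Subtype.ext e0), mem_perpS_line.1 α.2, LinearMap.mem_ker.1 hα⟩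
  choose α hα0 hαδ hα using hexα
  have hsing : ∀ p, T.fA (α p) (α p) = 0 := fun p =>
    P2 _ _ (hαδ p) (heδ p) ((hee p).symm ▸ p.2.2) (hα p)
  -- the singular line of `α p`
  let code : F × {r : F // r ≠ 0} → Option F := fun p =>
    if T.fA (α p) v₀ = 0 then none else some (T.fA (α p) d / T.fA (α p) v₀)
  have hcode : ∀ p p', code p = code p' → ∃ k : F, α p' = k • α p := by
    intro p p' hpp
    have s := hQ (α p) (hαδ p)
    have s' := hQ (α p') (hαδ p')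
    rw [hsing] at s s'
    by_cases z : T.fA (α p) v₀ = 0 <;> by_cases z' : T.fA (α p') v₀ = 0 <;>
      simp only [code, z, z', if_true, if_false] at hpp
    · rw [z, mul_zero, zero_add, eq_comm, div_eq_zero_iff, or_iff_left hdd, mul_self_eq_zero] at s
      rw [z', mul_zero, zero_add, eq_comm, div_eq_zero_iff, or_iff_left hdd, mul_self_eq_zero] at s'
      have e1 := hco (α p) (hαδ p)
      have e2 := hco (α p') (hαδ p')
      simp only [z, s, zero_div, zero_smul, add_zero] at e1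
      simp only [z', s', zero_div, zero_smul, add_zero] at e2
      have hne : T.fA (α p) v₁ ≠ 0 := fun h0 => hα0 p (by rw [e1, h0, zero_smul])
      refine ⟨T.fA (α p') v₁ / T.fA (α p) v₁, ?_⟩
      generalize T.fA (α p') v₁ = A'' at e2 ⊢
      generalize T.fA (α p) v₁ = A' at e1 hne ⊢
      rw [e2, e1, smul_smul, div_mul_cancel₀ _ hne]
    · simp at hpp
    · simp at hpp
    · have hd' := Option.some_injective _ hpp
      set k := T.fA (α p') v₀ / T.fA (α p) v₀ with hk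
      have k0 : T.fA (α p') v₀ = k * T.fA (α p) v₀ := by rw [hk, div_mul_cancel₀ _ z]
      have kd : T.fA (α p') d = k * T.fA (α p) d := by
        rw [hk]; field_simp; rw [div_eq_div_iff z z'] at hd'; linear_combination -hd'
      have k1 : T.fA (α p') v₁ = k * T.fA (α p) v₁ := by
        have hkne : k ≠ 0 := div_ne_zero z' z
        rw [k0, kd] at s'
        apply mul_left_cancel₀ (mul_ne_zero (mul_ne_zero D.two hkne) z)
        linear_combination -s' + k * k * s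
      exact ⟨k, sub_eq_zero.1 (hnd _ (by simp [hαδ]) (by simp [k0]) (by simp [kd]) (by simp [k1]))⟩
  have hinj : Function.Injective code := by
    intro p p' hpp
    by_contra hne'
    obtain ⟨k, hk⟩ := hcode p p' hpp
    have hk0 : k ≠ 0 := fun h0 => hα0 p' (by rw [hk, h0, zero_smul])
    have hω' : T.C' (e p') (h (T.tau (α p) b)) = 0 := by
      have h1 := hα p'
      rw [hk, map_smul, LinearMap.smul_apply, map_smul, map_smul, smul_eq_zero] at h1
      exact h1.resolve_left hk0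
    set ω := h (T.tau (α p) b) with hωd
    have hK : ∀ q, T.C' (e q) ω = 0 → ∀ w, T.fA (T.C w ω) (e q) = 0 := fun q hq w => by
      rw [← hT.form_C, hT.form_C', hq, map_zero, LinearMap.zero_apply]
    obtain ⟨w₀, hw₀⟩ : ∃ w, T.C w ω ≠ 0 := by
      by_contra hn
      simp only [not_exists, not_not] at hn
      have h0 := hT.C_nondeg hn
      rw [hωd, LinearEquiv.map_eq_zero_iff, ← map_zero (T.tau.flip b)] at h0
      exact hα0 p (hT.tau_left_inj hb h0)
    set x₀ := T.C w₀ ω with hx₀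
    set S := p.1 - p'.1 with hS
    set R := (p.2.1 - T.fA d d * p.1 * p.1) / 2 - (p'.2.1 - T.fA d d * p'.1 * p'.1) / 2 with hR
    have hRS : R ≠ 0 ∨ S ≠ 0 := by
      by_contra hn
      rw [not_or, not_not, not_not] at hn
      have e1 : p.1 = p'.1 := sub_eq_zero.1 hn.2
      refine hne' (Prod.ext e1 (Subtype.ext ?_))
      have e2 := hn.1
      rw [hR, e1, ← sub_div, div_eq_zero_iff, or_iff_left D.two] at e2
      linear_combination e2
    have heq : ∀ x, T.fA x (e p) = 0 → T.fA x (e p') = 0 → R * T.fA x v₀ + S * T.fA x d = 0 ∧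
        T.fA x v₁ = -((p.2.1 - T.fA d d * p.1 * p.1) / 2 * T.fA x v₀ + p.1 * T.fA x d) := by
      intro x h1 h2
      simp only [e, map_add, map_smul, smul_eq_mul] at h1 h2
      exact ⟨by rw [hR, hS]; linear_combination h1 - h2, by linear_combination h1⟩
    obtain ⟨q0, q1⟩ := heq x₀ (hK _ (hα p) w₀) (hK _ hω' w₀)
    have hx : T.fA x₀ v₀ ≠ 0 ∨ T.fA x₀ d ≠ 0 := by
      by_contra hn
      rw [not_or, not_not, not_not] at hn
      exact hw₀ (hnd _ (himg _ (hαδ p) w₀) hn.1 hn.2 (by rw [q1, hn.1, hn.2]; ring))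
    obtain ⟨w, hw⟩ := D.rank_one hw₀ (x := ω) fun w => by
      obtain ⟨r0, r1⟩ := heq (T.C w ω) (hK _ (hα p) w) (hK _ hω' w)
      obtain ⟨l, l0, l1⟩ : ∃ l, T.fA (T.C w ω) v₀ = l * T.fA x₀ v₀ ∧
          T.fA (T.C w ω) d = l * T.fA x₀ d := by
        rcases hRS with hne | hne
        · have hd' : T.fA x₀ d ≠ 0 := fun h0 => hx.elim (fun h' => h' (by
            rw [h0, mul_zero, add_zero] at q0
            exact (mul_eq_zero.1 q0).resolve_left hne)) (fun h' => h' h0)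
          refine ⟨T.fA (T.C w ω) d / T.fA x₀ d, mul_left_cancel₀ (mul_ne_zero hne hd') ?_,
            by rw [div_mul_cancel₀ _ hd']⟩
          have hl : T.fA (T.C w ω) d / T.fA x₀ d * T.fA x₀ d = T.fA (T.C w ω) d := div_mul_cancel₀ _ hd'
          generalize T.fA (T.C w ω) d / T.fA x₀ d = l at hl ⊢
          linear_combination T.fA x₀ d * r0 - T.fA (T.C w ω) d * q0 - R * T.fA x₀ v₀ * hl
        · have hd' : T.fA x₀ v₀ ≠ 0 := fun h0 => hx.elim (fun h' => h' h0) (fun h' => h' (by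
            rw [h0, mul_zero, zero_add] at q0
            exact (mul_eq_zero.1 q0).resolve_left hne))
          refine ⟨T.fA (T.C w ω) v₀ / T.fA x₀ v₀, by rw [div_mul_cancel₀ _ hd'],
            mul_left_cancel₀ (mul_ne_zero hne hd') ?_⟩
          have hl : T.fA (T.C w ω) v₀ / T.fA x₀ v₀ * T.fA x₀ v₀ = T.fA (T.C w ω) v₀ := div_mul_cancel₀ _ hd'
          generalize T.fA (T.C w ω) v₀ / T.fA x₀ v₀ = l at hl ⊢
          linear_combination T.fA x₀ v₀ * r0 - T.fA (T.C w ω) v₀ * q0 - S * T.fA x₀ d * hl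
      refine Submodule.mem_span_singleton.2 ⟨l, sub_eq_zero.1 (hnd _ ?_ ?_ ?_ ?_)⟩
      · simp [hωd, hx₀, himg _ (hαδ p)]
      · simp [l0]
      · simp [l1]
      · simp only [map_sub, map_smul, LinearMap.sub_apply, LinearMap.smul_apply, smul_eq_mul, q1, r1, l0, l1]
        ring
    -- a singular vector orthogonal to `v₀` is a multiple of it
    have hu0 := U1 _ _ _ (hα0 p) (hαδ p) hw
    have huu := P1 _ _ _ (hαδ p) hw (hne _ _ _ (hα0 p) hw).2
    rw [hQ _ (himg _ (hαδ p) w₀), hu0, mul_zero, zero_add, div_eq_zero_iff, or_iff_left hdd, mul_self_eq_zero] at huu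
    exact hw₀ (hnd _ (himg _ (hαδ p) w₀) hu0 huu (by rw [q1, hu0, huu]; ring))
  have hcard := Fintype.card_le_of_injective code hinj
  rw [Fintype.card_option, Fintype.card_prod, Fintype.card_subtype_compl, Fintype.card_subtype_eq] at hcard
  rw [Nat.card_eq_fintype_card] at hq
  have : 2 * Fintype.card F ≤ Fintype.card F * (Fintype.card F - 1) := by
    rw [mul_comm 2]; exact Nat.mul_le_mul_left _ (by omega)
  omega


/-- an element fixing an anisotropic plane `δ₀ ⊗ B` pointwise is pure -/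
theorem kron_of_fix (D : SpData T H) (hgood : ∀ L, NDeg T L → finrank F L = 2 → Good T H L)
    (hm : Minus T) (hA : finrank F A = 4) (hB : finrank F B = 2) (hq : 3 ≤ Nat.card F) {δ₀ : A}
    (h₀ : T.fA δ₀ δ₀ ≠ 0) {g : V ≃ₗ[F] V} (hg : g ∈ H) (hg₀ : ∀ b, g (T.tau δ₀ b) = T.tau δ₀ b) :
    IsKron T g := by
  have hT := D.good
  obtain ⟨a, haa, ha₀, hp⟩ := D.exists_planeP_four hgood hm hA hB hq h₀ hg hg₀
  obtain ⟨c, f, hf, hcc⟩ := D.exists_plane_map hg haa hp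
  have h0a : T.fA δ₀ a = 0 := hT.A_flip_zero ha₀
  have hc₀ : T.fA c δ₀ = 0 := D.plane_orth hg (f' := LinearEquiv.refl F B) hf hg₀ ha₀
  have hL := D.ndeg_pair h₀ haa h0a
  set P : Set A := {δ₀, a} ∪ {x | x ∈ perpS T (Submodule.span F ({δ₀, a} : Set A)) ∧ T.fA x x ≠ 0} with hP
  refine D.glue_gen hg (P := P) ?_ ?_ (δ₀ := δ₀) (Or.inl (Set.mem_insert _ _)) fun v hv hv₀ hvP =>
    D.kron_of_pair hgood hm hA h₀ hcc (hT.A_flip_zero hc₀) hv
      (fun b => ⟨b, hv₀ δ₀ (LinearEquiv.refl F B) hg₀ b⟩)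
      (hvP a (Or.inl (Set.mem_insert_of_mem _ rfl)) c f hf)
  · refine eq_top_iff.2 fun x _ => ?_
    obtain ⟨l, hl, hlp⟩ := D.split hL x
    rw [← add_sub_cancel l x, hP, Submodule.span_union]
    exact Submodule.add_mem_sup hl (D.span_aniso (D.ndeg_perp hL) hlp)
  · rintro δ ((rfl | rfl) | ⟨hδp, hδ⟩)
    · exact ⟨h₀, ⟨δ, fun b => ⟨b, hg₀ b⟩⟩⟩
    · exact ⟨haa, hp⟩
    refine ⟨hδ, ?_⟩
    have hδ₀ : T.fA δ δ₀ = 0 := hδp δ₀ (Submodule.subset_span (Set.mem_insert _ _))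
    have hδa : T.fA δ a = 0 := hδp a (Submodule.subset_span (Set.mem_insert_of_mem _ rfl))
    obtain ⟨r, hr, hr2, hr₀, hra, hrof, hrneg⟩ := D.exists_axisInvol hA h₀ hδ hδ₀
    refine D.plane_of_axis_four hgood hm hA hB h₀ hg hg₀ hδ hδ₀ hr hr2 hr₀ hra hrof hcc hc₀ fun b' => ⟨-b', ?_⟩
    have hi : g⁻¹ (T.tau c b') = T.tau a (f.symm b') := by
      apply g.injective
      rw [ap_inv, hf, LinearEquiv.apply_symm_apply]
    rw [hi, hrneg a ha₀ (hT.A_flip_zero hδa), map_neg, hf, LinearEquiv.apply_symm_apply, map_neg]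

/-- an element preserving an anisotropic plane `δ ⊗ B` is pure -/
theorem kron_of_axis (D : SpData T H) (hgood : ∀ L, NDeg T L → finrank F L = 2 → Good T H L)
    (hm : Minus T) (hA : finrank F A = 4) (hB : finrank F B = 2) (hq : 3 ≤ Nat.card F) {δ : A}
    (hδ : T.fA δ δ ≠ 0) {g : V ≃ₗ[F] V} (hg : g ∈ H) (hfix : ∀ b, ∃ b', g (T.tau δ b) = T.tau δ b') :
    IsKron T g := by
  obtain ⟨f, hf, hfiso⟩ := D.map_of_self hg hδ hfix
  obtain ⟨k, hk, hkab⟩ := D.pureB f.symm fun b b' => by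
    rw [← hfiso, LinearEquiv.apply_symm_apply, LinearEquiv.apply_symm_apply]
  obtain ⟨M, h, hMh⟩ := D.kron_of_fix hgood hm hA hB hq hδ (mul_mem hk hg) fun b => by
    show k (g (T.tau δ b)) = _
    rw [hf, hkab, LinearEquiv.symm_apply_apply]
  refine ⟨M, (f : B →ₗ[F] B) ∘ₗ h, fun a b => k.injective ?_⟩
  rw [LinearMap.comp_apply, LinearEquiv.coe_coe, hkab, LinearEquiv.symm_apply_apply]
  exact hMh a b

end SpData

end CfsgLib.MaxSub.TForm
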