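import Cfsg.Agent.Lib.MaxSub.Sp8.MinusAxis


/-!
`O₄ ⊗ Sp₂` , minus type: every element of the overgroup without transvections is pure.
-/
set_option autoImplicit false
set_option linter.unusedSectionVars false
set_option linter.unusedSimpArgs false
set_option linter.unusedVariables false
set_option linter.style.haveILetI false

namespace CfsgLib.MaxSub.TForm

open Module

variable {F A B V : Type*} [Field F] [AddCommGroup A] [Module F A] [AddCommGroup B] [Module F B]
  [AddCommGroup V] [Module F V]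

namespace SpData

variable {T : Sys F A B V (RingHom.id F)} {H : Subgroup (V ≃ₗ[F] V)}
variable [Finite F] [FiniteDimensional F A] [FiniteDimensional F B] [FiniteDimensional F V]

set_option maxHeartbeats 1000000 in
/-- conjugates of the involution of a plane are pure -/
theorem conj_pure (D : SpData T H) (hgood : ∀ L, NDeg T L → finrank F L = 2 → Good T H L)
    (hm : Minus T) (hA : finrank F A = 4) (hB : finrank F B = 2) (hq : 3 ≤ Nat.card F) {δ e : A}
    (hδ : T.fA δ δ ≠ 0) (he : T.fA e e ≠ 0) (hδe : T.fA δ e = 0) {g : V ≃ₗ[F] V} (hg : g ∈ H) :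
    ∃ M : A →ₗ[F] A, (∀ b w, M (T.C w (g (T.tau δ b))) = -T.C w (g (T.tau δ b))) ∧
      ∀ u, M u = -u → ∀ b, InS T (Submodule.span F ({δ, e} : Set A)) (g⁻¹ (T.tau u b)) := by
  classical
  haveI : Finite V := Module.finite_of_finite F
  haveI : Finite (V ≃ₗ[F] V) := Finite.of_injective _ DFunLike.coe_injective
  have hT := D.good
  obtain ⟨z, hz, hz2, hzfix, hfixz, hzneg, hzd, -⟩ := D.exists_pInvol hδ he hδe
  set y := g * z * g⁻¹ with hydef
  have hyH : y ∈ H := mul_mem (mul_mem hg hz) (inv_mem hg)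
  have hy2 : ∀ v, y (y v) = v := fun v => by
    show g (z (g⁻¹ (g (z (g⁻¹ v))))) = v
    rw [inv_ap', hz2, ap_inv]
  suffices hK : IsKron T y by
    obtain ⟨M, hM, -, -, hCM⟩ := D.invol_pure_four hm hA hB hyH hy2 hK
    refine ⟨M, fun b w => ?_, fun u hu b => hzneg _ (g.injective ?_)⟩
    · rw [← hCM, ← map_neg (T.C w)]
      congr 1
      show g (z (g⁻¹ (g (T.tau δ b)))) = _
      rw [inv_ap', hzd, map_neg]
    · rw [map_neg, ap_inv]
      show y (T.tau u b) = _
      rw [hM, hu, map_neg, LinearMap.neg_apply]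
  obtain ⟨x, hx, hxab, hxx⟩ := D.exists_iRefl he
  have hx2 : ∀ v, x (x v) = v := fun v => by
    rw [hxx (x v), hxx v, map_sub (T.C' e), map_smul (T.C' e), hT.C'_tau, smul_smul,
      div_mul_cancel₀ _ he, map_sub (T.tau e), map_smul (T.tau e)]
    module
  have hL := D.ndeg_pair hδ he hδe
  have hL2 := D.finrank_pair hδ he hδe
  obtain ⟨p₁, p₂, h1, h2, hp1, hp2, h12, hsplit⟩ := D.basis_two (D.ndeg_perp hL) (by
    have := D.finrank_perpS hL; omega)
  have mδ : δ ∈ Submodule.span F ({δ, e} : Set A) := Submodule.subset_span (Set.mem_insert _ _)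
  have me : e ∈ Submodule.span F ({δ, e} : Set A) := Submodule.subset_span (Set.mem_insert_of_mem _ rfl)
  -- a common fixed vector
  obtain ⟨ω, hω0, hxω, hyω⟩ : ∃ ω : V, ω ≠ 0 ∧ x ω = ω ∧ y ω = ω := by
    let J : B × B →ₗ[F] V := (T.tau p₁).coprod (T.tau p₂)
    let Φ : B × B →ₗ[F] B := T.C' e ∘ₗ (g : V →ₗ[F] V) ∘ₗ J
    obtain ⟨u, hu, hu0⟩ := Submodule.exists_mem_ne_zero_of_ne_bot (p := LinearMap.ker Φ) fun h0 => by
      have h1 := Φ.finrank_range_add_finrank_ker
      have h2 := Submodule.finrank_le (LinearMap.range Φ)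
      rw [h0, finrank_bot, Module.finrank_prod] at h1
      omega
    refine ⟨g (J u), fun h0 => hu0 ?_, ?_, ?_⟩
    · rw [LinearEquiv.map_eq_zero_iff] at h0
      have e1 := congrArg (T.C' p₁) h0
      have e2 := congrArg (T.C' p₂) h0
      simp only [J, LinearMap.coprod_apply, map_add, hT.C'_tau, h12, hT.A_flip_zero h12, zero_smul,
        add_zero, zero_add, map_zero, smul_eq_zero, hp1, hp2, false_or] at e1 e2
      exact Prod.ext e1 e2
    · rw [hxx, show T.C' e (g (J u)) = 0 from LinearMap.mem_ker.1 hu, map_zero, smul_zero, sub_zero]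
    · show g (z (g⁻¹ (g (J u)))) = _
      rw [inv_ap', hzfix] <;>
        simp [J, hT.C'_tau, h1 δ mδ, h2 δ mδ, h1 e me, h2 e me]
  have hcl : ∀ w ∈ Subgroup.closure ({x, y} : Set (V ≃ₗ[F] V)), w ∈ H ∧ w ω = ω := by
    intro w hw
    induction hw using Subgroup.closure_induction with
    | mem z hz =>
      rcases hz with rfl | rfl
      exacts [⟨hx, hxω⟩, ⟨hyH, hyω⟩]
    | one => exact ⟨one_mem _, rfl⟩
    | mul u v _ _ hu hv => exact ⟨mul_mem hu.1 hv.1, by rw [LinearEquiv.mul_apply, hv.2, hu.2]⟩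
    | inv u _ hu => exact ⟨inv_mem hu.1, u.injective (by rw [ap_inv, hu.2])⟩
  have hxfix : ∀ d, T.fA d e = 0 → ∀ c, x (T.tau d c) = T.tau d c := fun d hd c => by
    rw [hxx, hT.C'_tau, hd, zero_smul, map_zero, smul_zero, sub_zero]
  have hnc : ∀ w ∈ Subgroup.closure ({x, y} : Set (V ≃ₗ[F] V)), w * x * w⁻¹ ≠ y := by
    intro w hw hwx
    refine D.no_three hB (d := ![δ, p₁, p₂]) (fun i => ?_) (fun i j hij => ?_) hp1 hp2 h12 (g⁻¹ * w)
      fun i c => ?_
    · fin_cases i <;> simp [hδ, hp1, hp2]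
    · fin_cases i <;> fin_cases j <;>
        simp_all [h1 δ mδ, h2 δ mδ, hT.A_flip_zero (h1 δ mδ), hT.A_flip_zero (h2 δ mδ),
          h12, hT.A_flip_zero h12]
    · obtain ⟨e1, e2⟩ := hfixz ((g⁻¹ * w) (T.tau (![δ, p₁, p₂] i) c)) (by
        show z (g⁻¹ (w (T.tau _ c))) = g⁻¹ (w (T.tau _ c))
        apply g.injective
        rw [ap_inv]
        show y (w (T.tau _ c)) = _
        rw [← hwx, LinearEquiv.mul_apply, LinearEquiv.mul_apply, inv_ap', hxfix]
        fin_cases i <;> simp [hδe, h1 e me, h2 e me])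
      intro w'
      have hmem : T.C w' ((g⁻¹ * w) (T.tau (![δ, p₁, p₂] i) c)) ∈
          perpS T (Submodule.span F ({δ, e} : Set A)) := fun l hl => by
        obtain ⟨r, s, rfl⟩ := Submodule.mem_span_pair.1 hl
        rw [map_add, map_smul, map_smul, D.fA_C, D.fA_C, e1, e2]
        simp
      obtain ⟨r, s, hrs⟩ := hsplit _ hmem
      exact Submodule.mem_span_pair.2 ⟨r, s, hrs.symm⟩
  obtain ⟨κ, hκc, hκ1, hκ2, hκx, hκy⟩ := exists_central_involution (LinearEquiv.ext hx2)
    (LinearEquiv.ext hy2) hnc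
  obtain ⟨hκ, hκω⟩ := hcl κ hκc
  have hκe : ∀ c, ∃ c', κ (T.tau e c) = T.tau e c' := fun c => by
    have h1 : x (κ (T.tau e c)) = -κ (T.tau e c) := by
      have h2 := LinearEquiv.congr_fun hκx.eq (T.tau e c)
      rw [LinearEquiv.mul_apply, LinearEquiv.mul_apply] at h2
      rw [← h2, ← map_neg κ, hxx, hT.C'_tau, map_smul, smul_smul, div_mul_cancel₀ _ he]
      congr 1
      module
    refine ⟨(T.fA e e)⁻¹ • T.C' e (κ (T.tau e c)), ?_⟩
    rw [hxx] at h1
    apply smul_right_injective V D.two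
    show (2 : F) • κ (T.tau e c) = (2 : F) • T.tau e _
    rw [map_smul, smul_smul, ← div_eq_mul_inv]
    linear_combination (norm := module) h1
  obtain ⟨M, hM, hMiso, hM2, hCM⟩ := D.invol_pure_four hm hA hB hκ (LinearEquiv.congr_fun hκ2)
    (D.kron_of_axis hgood hm hA hB hq he hκ hκe)
  let E : F → Submodule F A := fun ε => LinearMap.ker (M - ε • LinearMap.id)
  have hE : ∀ ε x, x ∈ E ε ↔ M x = ε • x := fun ε x => by
    show (M - ε • (LinearMap.id : A →ₗ[F] A)) x = 0 ↔ _
    simp [sub_eq_zero]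
  have horth : ∀ p ∈ E 1, ∀ n ∈ E (-1), T.fA p n = 0 := fun p hp n hn => by
    have h := hMiso p n
    rw [(hE _ _).1 hp, (hE _ _).1 hn, one_smul, map_smul, smul_eq_mul] at h
    exact (mul_eq_zero.1 (show (2 : F) * T.fA p n = 0 by linear_combination -h)).resolve_left D.two
  have hdec : ∀ a, ∃ p ∈ E 1, ∃ n ∈ E (-1), a = p + n := fun a => by
    refine ⟨(2 : F)⁻¹ • (a + M a), Submodule.smul_mem _ _ ((hE _ _).2 ?_),
      (2 : F)⁻¹ • (a - M a), Submodule.smul_mem _ _ ((hE _ _).2 ?_), ?_⟩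
    · rw [map_add, hM2, one_smul, add_comm]
    · rw [map_sub, hM2, neg_one_smul, neg_sub]
    · have := D.two
      match_scalars <;> field_simp <;> ring
  have hyin : ∀ s, ∀ a ∈ E s, ∀ b, InS T (E s) (y (T.tau a b)) := fun s a ha b w => (hE _ _).2 (by
    have h1 : κ (y (T.tau a b)) = y (κ (T.tau a b)) := LinearEquiv.congr_fun hκy.eq _
    rw [← hCM, h1, hM, (hE _ _).1 ha, map_smul, LinearMap.smul_apply, map_smul, map_smul])
  have hs := Submodule.finrank_sup_add_finrank_inf_eq (E 1) (E (-1))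
  have hdis : E 1 ⊓ E (-1) = ⊥ := (Submodule.eq_bot_iff _).2 fun a ha => by
    have e1 := (hE _ _).1 ha.1
    have e2 := (hE _ _).1 ha.2
    rw [e1] at e2
    have : (2 : F) • a = 0 := by linear_combination (norm := module) e2
    exact (smul_eq_zero.1 this).resolve_left D.two
  have hsup : E 1 ⊔ E (-1) = ⊤ := eq_top_iff.2 fun a _ => by
    obtain ⟨p, hp, n, hn, rfl⟩ := hdec a
    exact Submodule.add_mem_sup hp hn
  rw [hdis, finrank_bot, hsup, finrank_top, hA] at hs
  have hn : 0 < finrank F (E (-1)) := Nat.pos_of_ne_zero fun h0 => hκ1 (LinearEquiv.ext fun v =>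
    LinearMap.congr_fun (hT.ext_tau (f := (κ : V →ₗ[F] V)) (g := LinearMap.id) fun a b => by
      show κ (T.tau a b) = T.tau a b
      have hmem : a - M a ∈ E (-1) := (hE _ _).2 (by rw [map_sub, hM2, neg_one_smul, neg_sub])
      rw [Submodule.finrank_eq_zero.1 h0, Submodule.mem_bot, sub_eq_zero] at hmem
      rw [hM, ← hmem]) v)
  have hp : 0 < finrank F (E 1) := Nat.pos_of_ne_zero fun h0 => by
    refine hω0 (hT.C_nondeg fun w => ?_)
    have hmem : T.C w ω ∈ E 1 := (hE _ _).2 (by rw [← hCM, hκω, one_smul])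
    rwa [Submodule.finrank_eq_zero.1 h0, Submodule.mem_bot] at hmem
  have aux : ∀ s, (∀ a, ∃ p ∈ E s, ∃ n, a = p + n ∧ ∀ c ∈ E s, T.fA c n = 0) → finrank F (E s) = 1 →
      IsKron T y := by
    intro s hdec h1
    obtain ⟨c, hc, hc0⟩ := Submodule.exists_mem_ne_zero_of_ne_bot (p := E s) fun e => by
      rw [e, finrank_bot] at h1; omega
    have heq : Submodule.span F {c} = E s := Submodule.eq_of_le_of_finrank_le
      ((Submodule.span_singleton_le_iff_mem _ _).2 hc) (by rw [finrank_span_singleton hc0]; omega)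
    have hcc : T.fA c c ≠ 0 := fun hcc => hc0 (hT.nondegA c fun a => by
      obtain ⟨p, hp, n, rfl, hn⟩ := hdec a
      rw [← heq] at hp
      obtain ⟨k, rfl⟩ := Submodule.mem_span_singleton.1 hp
      simp [hcc, hn c hc])
    exact D.kron_of_axis hgood hm hA hB hq hcc hyH fun b =>
      D.pure_of_inS_line hc0 fun w => heq.symm ▸ hyin s c hc b w
  by_cases h1 : finrank F (E 1) = 1
  · exact aux 1 (fun a => by
      obtain ⟨p, hp, n, hn, rfl⟩ := hdec a
      exact ⟨p, hp, n, rfl, fun c hc => horth c hc n hn⟩) h1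
  by_cases h1' : finrank F (E (-1)) = 1
  · exact aux (-1) (fun a => by
      obtain ⟨p, hp, n, hn, rfl⟩ := hdec a
      exact ⟨n, hn, p, add_comm p n, fun c hc => hT.A_flip_zero (horth p hp c hc)⟩) h1'
  have hnd : NDeg T (E 1) := fun a ha h => hT.nondegA a fun a' => by
    obtain ⟨p, hp, n, hn, rfl⟩ := hdec a'
    rw [map_add, h p hp, horth a ha n hn, add_zero]
  have hperp : E (-1) = perpS T (E 1) := Submodule.eq_of_le_of_finrank_le
    (fun a ha p hp => hT.A_flip_zero (horth p hp a ha)) (by have := D.finrank_perpS hnd; omega)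
  refine D.kron_of_split hgood hm hA hnd (by omega) hyH (hyin 1) ?_
  rw [← hperp]
  exact hyin (-1)

/-- every element of the overgroup without transvections is pure -/
theorem kron_all_four (D : SpData T H) (hno : NoTvSp T H) (hm : Minus T) (hA : finrank F A = 4)
    (hB : finrank F B = 2) (hq : 3 ≤ Nat.card F) {g : V ≃ₗ[F] V} (hg : g ∈ H) : IsKron T g := by
  have hgood := D.good_planes_four hno hB hA hm
  have hT := D.good
  haveI := Module.nontrivial_of_finrank_pos (R := F) (M := B) (by omega)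
  obtain ⟨b₀, hb₀⟩ := exists_ne (0 : B)
  refine D.glueTop (fun e he v hv hfix => D.kron_of_fix hgood hm hA hB hq he hv fun b => hfix e
    (fun p hp => hT.A_flip_zero (mem_perpS_line.1 hp)) b) hg
    (P := {d | d ∈ (⊤ : Submodule F A) ∧ T.fA d d ≠ 0}) (eq_top_iff.2 (D.span_aniso D.ndeg_top))
    fun δ hδ' => ?_
  have hδ := hδ'.2
  refine ⟨hδ, ?_⟩
  have hL := D.ndeg_perp (D.ndeg_line hδ)
  have hδ0 : δ ≠ 0 := fun e => hδ (by simp [e])
  obtain ⟨e, he, hee⟩ := D.exists_aniso hL (by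
    have := D.finrank_perpS (D.ndeg_line hδ)
    rw [finrank_span_singleton hδ0] at this
    omega)
  obtain ⟨e', he', hee'⟩ := D.exists_aniso (D.ndeg_cut hL he hee) (by
    have := D.finrank_perpS (D.ndeg_line hδ)
    rw [finrank_span_singleton hδ0] at this
    have := D.finrank_cut_line he hee
    omega)
  have heδ : T.fA e δ = 0 := mem_perpS_line.1 he
  have he'δ : T.fA e' δ = 0 := mem_perpS_line.1 he'.1
  have he'e : T.fA e' e = 0 := mem_perpS_line.1 he'.2
  obtain ⟨M, hM, hMback⟩ := D.conj_pure hgood hm hA hB hq hδ hee (hT.A_flip_zero heδ) hg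
  obtain ⟨M', hM', hM'back⟩ := D.conj_pure hgood hm hA hB hq hδ hee' (hT.A_flip_zero he'δ) hg
  obtain ⟨w₀, hw₀⟩ : ∃ w, T.C w (g (T.tau δ b₀)) ≠ 0 := by
    by_contra hn
    simp only [not_exists, not_not] at hn
    have h0 := hT.C_nondeg hn
    rw [LinearEquiv.map_eq_zero_iff, ← map_zero (T.tau δ)] at h0
    exact hb₀ (hT.tau_right_inj hδ0 h0)
  refine D.plane_of_back hδ hw₀ fun b => D.pure_of_inS_line hδ0 fun w => ?_
  obtain ⟨p, q, h1⟩ := Submodule.mem_span_pair.1 (hMback _ (hM b₀ w₀) b w)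
  obtain ⟨p', q', h2⟩ := Submodule.mem_span_pair.1 (hM'back _ (hM' b₀ w₀) b w)
  have h3 := congrArg (fun x => T.fA x e) (h1.trans h2.symm)
  simp only [map_add, map_smul, LinearMap.add_apply, LinearMap.smul_apply, smul_eq_mul,
    hT.A_flip_zero heδ, he'e, mul_zero, zero_add, mul_eq_zero, or_iff_left hee] at h3
  rw [← h1, h3, zero_smul, add_zero]
  exact Submodule.smul_mem _ _ (Submodule.mem_span_singleton_self δ)

end SpData

end CfsgLib.MaxSub.TForm
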