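import Cfsg.Agent.Lib.MaxSub.Sp8.MinusQuad
import Cfsg.Agent.Lib.MaxSub.TFormSpTwoDim


/-!
`O₄ ⊗ Sp₂` , minus type: the elements moving only a plane are pure.
-/
set_option autoImplicit false
set_option linter.unusedSectionVars false
set_option linter.unusedSimpArgs false
set_option linter.unusedVariables false
set_option linter.style.haveILetI false

namespace CfsgLib.MaxSub.TForm

open Module

variable {F A B V : Type*} [Field F] [AddCommGroup A] [Module F A] [AddCommGroup B] [Module F B]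
  [AddCommGroup V] [Module F V]

namespace SpData

variable {T : Sys F A B V (RingHom.id F)} {H : Subgroup (V ≃ₗ[F] V)}
variable [Finite F] [FiniteDimensional F A] [FiniteDimensional F B] [FiniteDimensional F V]

/-- planes are good when elements preserving an anisotropic line of the plane are scalar on it -/
theorem good_of_line (D : SpData T H) (hno : NoTvSp T H) (hB : finrank F B = 2) (h4 : 4 ≤ finrank F A)
    {L : Submodule F A} (hL : NDeg T L) (d2 : finrank F L = 2)
    (hline : ∀ x ∈ H, FixOff T L x → ∀ δ ∈ L, T.fA δ δ ≠ 0 → ∀ f : B ≃ₗ[F] B,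
      (∀ b, x (T.tau δ b) = T.tau δ (f b)) → ∃ μ : F, ∀ b, f b = μ • b) : Good T H L := by
  by_cases hbig : ∃ s : F, s ≠ 0 ∧ s ≠ 1 ∧ s ≠ -1
  · exact D.good_two_three hno hB (by omega) hbig hL d2
  intro g hg hgfix
  haveI := Module.nontrivial_of_finrank_pos (R := F) (M := B) (by omega)
  obtain ⟨y, hy⟩ := exists_ne (0 : B)
  obtain ⟨pc, hpc⟩ := CharP.exists F
  haveI := hpc
  haveI : Fact pc.Prime := ⟨CharP.char_is_prime F pc⟩
  by_cases hCC : cQ T y g * cQ T y g = 0
  · exact D.quad_nil_three hno hB (by omega) (pc := pc) hL d2 hg hgfix hy hCC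
  exact (D.quad_three_gen hno hB h4 (pc := pc) hL d2 hline (fun s hs => by
    by_contra h
    rw [not_or] at h
    exact hbig ⟨s, hs, h.1, h.2⟩) hg hgfix hy hCC).elim

/-- in minus type the orthogonal of a pair of equal norms contains a singular vector, three scalars -/
theorem exists_off_pair (D : SpData T H) (hA : finrank F A = 4)
    (hminus : ∀ W : Submodule F A, finrank F W = 2 → ∃ x ∈ W, T.fA x x ≠ 0)
    (hsm : ∀ s : F, s ≠ 0 → s = 1 ∨ s = -1) {d e : A} (hd : T.fA d d ≠ 0) (hde : T.fA d e = 0)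
    (hee : T.fA e e = T.fA d d) :
    ∃ r ∈ perpS T (Submodule.span F ({d, e} : Set A)), r ≠ 0 ∧ T.fA r r = 0 := by
  have hed : T.fA e d = 0 := D.good.A_flip_zero hde
  set L := Submodule.span F ({d, e} : Set A) with hLdef
  have hL : NDeg T L := D.ndeg_pair hd (hee ▸ hd) hde
  have hL2 : finrank F L = 2 := D.finrank_pair hd (hee ▸ hd) hde
  have hP2 : finrank F (perpS T L) = 2 := by have := D.finrank_perpS hL; omega
  obtain ⟨e₃, e₄, h3, h4, h33, h44, h34, -⟩ := D.basis_two (D.ndeg_perp hL) hP2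
  have h43 : T.fA e₄ e₃ = 0 := D.good.A_flip_zero h34
  have hdm : d ∈ L := Submodule.subset_span (Set.mem_insert _ _)
  have hem : e ∈ L := Submodule.subset_span (Set.mem_insert_of_mem _ rfl)
  have h3d : T.fA e₃ d = 0 := h3 d hdm
  have h3e : T.fA e₃ e = 0 := h3 e hem
  have h4d : T.fA e₄ d = 0 := h4 d hdm
  have h4e : T.fA e₄ e = 0 := h4 e hem
  have hd3 : T.fA d e₃ = 0 := D.good.A_flip_zero h3d
  have he3 : T.fA e e₃ = 0 := D.good.A_flip_zero h3e
  have hd4 : T.fA d e₄ = 0 := D.good.A_flip_zero h4d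
  have he4 : T.fA e e₄ = 0 := D.good.A_flip_zero h4e
  by_cases hopp : T.fA e₄ e₄ = -T.fA e₃ e₃
  · refine ⟨e₃ + e₄, (perpS T L).add_mem h3 h4, fun h0 => ?_, by simp [h34, h43, hopp]⟩
    have h := congrArg (fun x => T.fA x e₃) h0
    simp [h43, h33] at h
  have h44' : T.fA e₄ e₄ = T.fA e₃ e₃ := by
    rcases hsm (T.fA e₄ e₄ / T.fA e₃ e₃) (div_ne_zero h44 h33) with h | h
    · exact (div_eq_one_iff_eq h33).1 h
    · rw [div_eq_iff h33, neg_one_mul] at h; exact absurd h hopp
  have hF3 : (3 : F) = 0 := by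
    rcases hsm 2 D.two with h | h
    · exact absurd (show (1 : F) = 0 by linear_combination h) one_ne_zero
    · linear_combination h
  exfalso
  -- a totally singular plane
  obtain ⟨u, w, huu, hww, huw, hu3, hw3⟩ : ∃ u w : A, T.fA u u = 0 ∧ T.fA w w = 0 ∧ T.fA u w = 0 ∧
      T.fA u e₃ ≠ 0 ∧ T.fA w e₃ = 0 ∧ w ≠ 0 := by
    have hw0 : ∀ p q : F, p • d + q • e + e₄ ≠ 0 := fun p q h0 => by
      have h := congrArg (fun x => T.fA x e₄) h0
      simp [hd4, he4, h44] at h
    rcases hsm (T.fA e₃ e₃ / T.fA d d) (div_ne_zero h33 hd) with h | h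
    · have h33' : T.fA e₃ e₃ = T.fA d d := (div_eq_one_iff_eq hd).1 h
      refine ⟨d + e + e₃, d - e + e₄, ?_, ?_, ?_, ?_, ?_, ?_⟩
      · simp [hde, hed, hd3, h3d, he3, h3e, hee, h33']; linear_combination T.fA d d * hF3
      · simp [hde, hed, hd4, h4d, he4, h4e, hee, h44', h33']; linear_combination T.fA d d * hF3
      · simp [hde, hed, hd3, h3d, he3, h3e, hd4, h4d, he4, h4e, h34, hee]
      · simp [hd3, he3, h33]
      · simp [hd3, he3, h43]
      · intro h0; exact hw0 1 (-1) (by rw [← h0]; module)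
    · rw [div_eq_iff hd, neg_one_mul] at h
      refine ⟨d + e₃, e + e₄, ?_, ?_, ?_, ?_, ?_, ?_⟩
      · simp [hd3, h3d, h]
      · simp [he4, h4e, hee, h44', h]
      · simp [hde, hd4, h3e, h34]
      · simp [hd3, h33]
      · simp [he3, h43]
      · intro h0; exact hw0 0 1 (by rw [← h0]; module)
  obtain ⟨hw30, hw0⟩ := hw3
  have hu0 : u ≠ 0 := fun h => hu3 (by simp [h])
  have hli : LinearIndependent F ![w, u] := (LinearIndependent.pair_iff' hw0).2 fun k hk => hu3 (by
    rw [← hk, map_smul, LinearMap.smul_apply, hw30, smul_zero])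
  have hfr := finrank_span_eq_card hli
  rw [Fintype.card_fin] at hfr
  obtain ⟨x, hx, hxx⟩ := hminus _ hfr
  obtain ⟨c, rfl⟩ := (Submodule.mem_span_range_iff_exists_fun F).1 hx
  apply hxx
  simp [Fin.sum_univ_two, huu, hww, huw, D.symA u w]

/-- pairs of equal norms are good, minus type -/
theorem goodPairs_four (D : SpData T H) (hno : NoTvSp T H) (hB : finrank F B = 2) (hA : finrank F A = 4)
    (hminus : ∀ W : Submodule F A, finrank F W = 2 → ∃ x ∈ W, T.fA x x ≠ 0) : GoodPairs T H := by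
  intro d e hd hde hee
  have hL := D.ndeg_pair hd (hee ▸ hd : T.fA e e ≠ 0) hde
  have hL2 := D.finrank_pair hd (hee ▸ hd : T.fA e e ≠ 0) hde
  by_cases hbig : ∃ s : F, s ≠ 0 ∧ s ≠ 1 ∧ s ≠ -1
  · exact D.good_two_three hno hB (by omega) hbig hL hL2
  obtain ⟨r, hr, hr0, hrr⟩ := D.exists_off_pair hA hminus (fun s hs => by
    by_contra h
    rw [not_or] at h
    exact hbig ⟨s, hs, h.1, h.2⟩) hd hde hee
  exact D.good_of_line hno hB (by omega) hL hL2 fun x hx hfix δ hδL hδ f hf =>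
    D.line_scalar hno hB hx hδ hr0 hrr (hr δ hδL) hf (hfix r hr)

/-- elements moving only a plane and preserving one of its anisotropic lines are scalar on it -/
theorem line_of_pairs (D : SpData T H) (hP : GoodPairs T H) {L : Submodule F A} (hL : NDeg T L)
    (hperp : finrank F L + 2 ≤ finrank F A) {x : V ≃ₗ[F] V} (hx : x ∈ H) (hfix : FixOff T L x)
    {δ : A} (hδL : δ ∈ L) (hδ : T.fA δ δ ≠ 0) {f : B ≃ₗ[F] B} (hf : ∀ b, x (T.tau δ b) = T.tau δ (f b)) :
    ∃ μ : F, ∀ b, f b = μ • b := by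
  have hT := D.good
  obtain ⟨p, hp, hpp⟩ := D.exists_norm (D.ndeg_perp hL) (by have := D.finrank_perpS hL; omega) hδ
  have hpδ : T.fA p δ = 0 := hp δ hδL
  have hδp : T.fA δ p = 0 := hT.A_flip_zero hpδ
  have hn : T.fA (δ - p) (δ - p) ≠ 0 := by
    simp only [map_sub, LinearMap.sub_apply, hδp, hpδ, hpp, sub_zero, zero_sub, sub_neg_eq_add, ← two_mul]
    exact mul_ne_zero D.two hδ
  obtain ⟨R, hR, hRa⟩ := D.exists_refl hn
  obtain ⟨k, hk, hkab⟩ := D.pureA R hR
  have hRd : R δ = p := by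
    rw [hRa]
    simp only [map_sub, LinearMap.sub_apply, hδp, hpδ, hpp, sub_zero, zero_sub, sub_neg_eq_add, ← two_mul]
    rw [div_self (mul_ne_zero D.two hδ), one_smul, sub_sub_cancel]
  have hRp : R p = δ := by
    rw [hRa]
    simp only [map_sub, LinearMap.sub_apply, hδp, hpδ, hpp, sub_zero, zero_sub, sub_neg_eq_add, ← two_mul,
      mul_neg, neg_div]
    rw [div_self (mul_ne_zero D.two hδ), neg_one_smul, sub_neg_eq_add, add_sub_cancel]
  set K := Submodule.span F ({δ, p} : Set A) with hK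
  have hxp : ∀ b, x (T.tau p b) = T.tau p b := hfix p hp
  have hkfix : ∀ v, (∀ c, T.form v (T.tau δ c) = 0) → (∀ c, T.form v (T.tau p c) = 0) → k v = v := by
    intro v h1 h2
    have h : ∀ y, k y = y - (2 / T.fA (δ - p) (δ - p)) • T.tau (δ - p) (T.C' (δ - p) y) := fun y => by
      refine LinearMap.congr_fun (hT.ext_tau (f := (k : V →ₗ[F] V))
        (g := LinearMap.id - (2 / T.fA (δ - p) (δ - p)) • (T.tau (δ - p) ∘ₗ T.C' (δ - p))) fun a b => ?_) y
      show k (T.tau a b) = T.tau a b - (2 / T.fA (δ - p) (δ - p)) • T.tau (δ - p) (T.C' (δ - p) (T.tau a b))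
      rw [hkab, hRa, hT.C'_tau, map_sub, LinearMap.sub_apply, map_smul T.tau, LinearMap.smul_apply,
        map_smul (T.tau (δ - p)), smul_smul]
      congr 2
      ring
    have hC : T.C' (δ - p) v = 0 := hT.nondegB _ fun c => by
      rw [← hT.form_C', map_sub T.tau, LinearMap.sub_apply, map_sub, h1, h2, sub_zero]
    rw [h, hC, map_zero, smul_zero, sub_zero]
  set x' := x * k * x⁻¹ * k⁻¹ with hx'
  have hx'H : x' ∈ H := mul_mem (mul_mem (mul_mem hx hk) (inv_mem hx)) (inv_mem hk)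
  have hoff : FixOff T K x' := by
    intro w hw b
    have hwδ : T.fA w δ = 0 := hw δ (Submodule.subset_span (Set.mem_insert _ _))
    have hwp : T.fA w p = 0 := hw p (Submodule.subset_span (Set.mem_insert_of_mem _ rfl))
    have hkw : k (T.tau w b) = T.tau w b := hkfix _ (fun c => by rw [hT.form_tau, hwδ, zero_mul])
      (fun c => by rw [hT.form_tau, hwp, zero_mul])
    have hkw' : k⁻¹ (T.tau w b) = T.tau w b := by
      conv_lhs => rw [← hkw, inv_ap']
    show x (k (x⁻¹ (k⁻¹ (T.tau w b)))) = _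
    rw [hkw', hkfix, ap_inv]
    · intro c
      have h := D.isom x hx (x⁻¹ (T.tau w b)) (T.tau δ c)
      rw [ap_inv, hf, hT.form_tau, hwδ, zero_mul] at h
      exact h.symm
    · intro c
      have h := D.isom x hx (x⁻¹ (T.tau w b)) (T.tau p c)
      rw [ap_inv, hxp, hT.form_tau, hwp, zero_mul] at h
      exact h.symm
  have hg : Good T H K := hP δ p hδ hδp hpp
  obtain ⟨ε, hε, hε0⟩ := D.exists_perp_ne (D.ndeg_pair hδ (hpp.symm ▸ hδ) hδp : NDeg T K) (by
    have := (D.finrank_pair hδ (hpp.symm ▸ hδ : T.fA p p ≠ 0) hδp); have := D.dimA; omega)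
  obtain ⟨M, hM, -⟩ := D.pure_form hx'H (hg x' hx'H hoff) hε0 (hoff ε hε)
  -- on `δ` the map is `f`
  have e1 : ∀ b, x' (T.tau δ b) = T.tau δ (f b) := fun b => by
    have h1 : k⁻¹ (T.tau δ b) = T.tau p b := k.injective (by rw [ap_inv, hkab, hRp])
    have h2 : x⁻¹ (T.tau p b) = T.tau p b := x.injective (by rw [ap_inv, hxp])
    show x (k (x⁻¹ (k⁻¹ (T.tau δ b)))) = _
    rw [h1, h2, hkab, hRp, hf]
  refine ⟨T.fA (M δ) δ / T.fA δ δ, fun b => ?_⟩
  have h := congrArg (T.C' δ) ((e1 b).symm.trans (hM δ b))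
  rw [hT.C'_tau, hT.C'_tau] at h
  rw [div_eq_inv_mul, mul_smul, ← h, inv_smul_smul₀ hδ]

/-- all planes are good, minus type -/
theorem good_planes_four (D : SpData T H) (hno : NoTvSp T H) (hB : finrank F B = 2) (hA : finrank F A = 4)
    (hminus : ∀ W : Submodule F A, finrank F W = 2 → ∃ x ∈ W, T.fA x x ≠ 0)
    (L : Submodule F A) (hL : NDeg T L) (d2 : finrank F L = 2) : Good T H L :=
  D.good_of_line hno hB (by omega) hL d2 fun x hx hfix δ hδL hδ f hf =>
    D.line_of_pairs (D.goodPairs_four hno hB hA hminus) hL (by omega) hx hfix hδL hδ hf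

end SpData

end CfsgLib.MaxSub.TForm
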