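import Cfsg.Agent.Lib.MaxSub.TFormSpThree


/-!
`O₄ ⊗ Sp₂` over three scalars: the quadratic identity for planes of either type.
-/
set_option autoImplicit false
set_option linter.unusedSectionVars false
set_option linter.unusedSimpArgs false
set_option linter.unusedVariables false
set_option linter.style.haveILetI false

namespace CfsgLib.MaxSub.TForm

open Module

variable {F A B V : Type*} [Field F] [AddCommGroup A] [Module F A] [AddCommGroup B] [Module F B]
  [AddCommGroup V] [Module F V]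

namespace SpData

variable {T : Sys F A B V (RingHom.id F)} {H : Subgroup (V ≃ₗ[F] V)}
variable [Finite F] [FiniteDimensional F A] [FiniteDimensional F B] [FiniteDimensional F V]

set_option maxHeartbeats 2000000 in
/-- three scalars: planes, given that the elements preserving one anisotropic line of the plane are scalar on it -/
theorem quad_three_gen (D : SpData T H) (hno : NoTvSp T H) (hB : finrank F B = 2) (h4 : 4 ≤ finrank F A)
    {pc : ℕ} [Fact pc.Prime] [CharP F pc] {L : Submodule F A} (hL : NDeg T L) (d2 : finrank F L = 2)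
    (hline : ∀ x ∈ H, FixOff T L x → ∀ δ ∈ L, T.fA δ δ ≠ 0 → ∀ f : B ≃ₗ[F] B,
      (∀ b, x (T.tau δ b) = T.tau δ (f b)) → ∃ μ : F, ∀ b, f b = μ • b)
    (hpm : ∀ s : F, s ≠ 0 → s = 1 ∨ s = -1)
    {g : V ≃ₗ[F] V} (hg : g ∈ H) (hgfix : FixOff T L g) {y : B} (hy : y ≠ 0)
    (hCC : ¬ cQ T y g * cQ T y g = 0) : False := by
  classical
  haveI : Finite V := Module.finite_of_finite F
  haveI : Finite (V ≃ₗ[F] V) := Finite.of_injective _ DFunLike.coe_injective
  haveI := Module.nontrivial_of_finrank_pos (R := F) (M := A) (by omega)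
  have hT := D.good
  obtain ⟨d₁, d₂, hd₁L, hd₂L, hd₁, hd₂, h12, hsplit⟩ := D.basis_two hL d2
  have h21 : T.fA d₂ d₁ = 0 := hT.A_flip_zero h12
  obtain ⟨r₀, hr₀, hr₀0⟩ := D.exists_perp_ne hL (by omega)
  obtain ⟨e, he, he'⟩ := hT.exists_partner hy
  set a := aEnd T y with hadef
  set b := conjA T y g with hbdef
  have hbx : ∀ v, b v = g (a (g⁻¹ v)) := fun v => rfl
  have ha2x : ∀ v, a (a v) = 0 := D.aEnd_sqx y
  have hb2x : ∀ v, b (b v) = 0 := D.conjA_sqx y g
  have P : SqPair a b := D.sqPair y g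
  set C := cQ T y g with hCdef
  have hCx : ∀ v, C v = a (b v) + b (a v) := fun v => rfl
  have hCa : ∀ v, C (a v) = a (C v) := D.cQ_a y g
  have hCb : ∀ v, C (b v) = b (C v) := D.cQ_b y g
  set NC := D.centC L y g with hNC
  obtain ⟨t, htf⟩ := D.exists_tvFam y
  have htx : ∀ c v, t c v = v + c • a v := htf.app
  have htH : ∀ c, t c ∈ H := htf.mem
  have ht : ∀ c, t c ∈ D.tvSub y := fun c => ⟨htH c, c, htx c⟩
  have htadd : ∀ c c', t c * t c' = t (c + c') := D.tv_add htf
  have ht0 : t 0 = 1 := D.tv_zero htf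
  have htinv : ∀ c, (t c)⁻¹ = t (-c) := D.tv_inv htf
  have htmem : ∀ x ∈ D.tvSub y, ∃ c, x = t c := fun x => D.tv_of_mem htf
  have htnorm : ∀ c, ∀ x ∈ NC, t c * x * (t c)⁻¹ ∈ NC := fun c x => D.tv_norm htf c
  have htC : ∀ c v, t c (C v) = C (t c v) := D.tv_comm_cQ htf g
  have hdisj : ∀ c, t c ∈ NC → c = 0 := fun c => D.tv_disj htf hy hr₀ hr₀0
  have hu : ∀ d : F, ∀ v, (g * t d * g⁻¹) v = v + d • b v := D.tv_conj_app htf g
  have hprod : ∀ c d : F, t c * (g * t d * g⁻¹) * t (-(c + d)) ∈ NC := D.tv_conj_mem htf hg hgfix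
  have hord : ¬ pc ∣ Nat.card NC := D.centC_card_three hno hB (by omega) hL d2 hg hgfix hy
  -- the projection to `L`
  let PL : A →ₗ[F] A := (T.fA d₁ d₁)⁻¹ • (T.fA.flip d₁).smulRight d₁ +
    (T.fA d₂ d₂)⁻¹ • (T.fA.flip d₂).smulRight d₂
  have hPL : ∀ x, PL x = (T.fA x d₁ / T.fA d₁ d₁) • d₁ + (T.fA x d₂ / T.fA d₂ d₂) • d₂ := fun x => by
    show (T.fA d₁ d₁)⁻¹ • (T.fA x d₁ • d₁) + (T.fA d₂ d₂)⁻¹ • (T.fA x d₂ • d₂) = _
    simp only [smul_smul, div_eq_inv_mul]
  have hPL1 : ∀ l ∈ L, PL l = l := by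
    intro l hl
    obtain ⟨r, s, rfl⟩ := hsplit l hl
    simp [hPL, h12, h21, hd₁, hd₂]
  have hPL0 : ∀ p ∈ perpS T L, PL p = 0 := fun p hp => by simp [hPL, hp d₁ hd₁L, hp d₂ hd₂L]
  have hF3 : (3 : F) = 0 := by
    rcases hpm 2 D.two with h | h
    · exact absurd (show (1 : F) = 0 by linear_combination h) one_ne_zero
    · linear_combination h
  have hsqv : ∀ s : F, s ≠ 0 → s * s = 1 := fun s hs => by
    rcases hpm s hs with h | h <;> rw [h] <;> ring
  have hC2 : ∀ v, C (C v) = -C v := fun v => by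
    have h := LinearMap.congr_fun
      ((D.quad_key_three hno hB (by omega) (pc := pc) hL d2 hg hgfix hy one_ne_zero one_ne_zero (by rw [one_add_one_eq_two]; exact D.two)).resolve_left hCC) v
    simp only [LinearMap.add_apply, LinearMap.smul_apply, Module.End.mul_apply, mul_one, one_smul,
      LinearMap.zero_apply] at h
    have h3 : (3 : F) • C v = 0 := by rw [hF3, zero_smul]
    linear_combination (norm := module) h - h3
  -- the element `x₀`
  set x₀ := g * t 1 * g⁻¹ * t (-1) with hx₀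
  have hx₀N : x₀ ∈ NC := by
    have h := hprod 0 1
    rwa [ht0, one_mul, zero_add] at h
  let r : Module.End F V := b - a - b * a
  have hrx : ∀ v, r v = b v - a v - b (a v) := fun v => rfl
  have hx₀x : ∀ v, x₀ v = v + r v := fun v => by
    rw [hx₀, LinearEquiv.mul_apply, hu, htx, hrx, map_add, map_smul]
    module
  have hrr : ∀ v, r (r v) = -C v - C (r v) := fun v => by
    have haba : ∀ v, a (b (a v)) = C (a v) := fun v => by rw [hCx, ha2x, map_zero, add_zero]
    have hbab : ∀ v, b (a (b v)) = C (b v) := fun v => by rw [hCx, hb2x, map_zero, zero_add]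
    simp only [hrx, map_sub, map_neg, ha2x, hb2x, haba, hbab, map_zero, sub_zero]
    rw [show b (C (a v)) = C (b (a v)) from (hCb _).symm, hCx v]
    abel
  have hrC : ∀ v, r (C v) = C (r v) := fun v => by
    simp only [hrx, map_sub, hCa, hCb]
  have hsq0 : ∀ v, x₀ (x₀ v) = v - C v + (2 : F) • r v - C (r v) := fun v => by
    rw [hx₀x, hx₀x, map_add, hrr]
    module
  have hfix1 : ∀ v, C v = 0 → x₀ v = v := by
    intro v hv
    have hCr : C (r v) = 0 := by rw [← hrC, hv, map_zero]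
    have hrr0 : r (r v) = 0 := by rw [hrr, hv, hCr, neg_zero, sub_zero]
    have hit : ∀ j : ℕ, (x₀ ^ j) v = v + (j : F) • r v := by
      intro j
      induction j with
      | zero => simp
      | succ j ih =>
        rw [pow_succ', LinearEquiv.mul_apply, ih, hx₀x, map_add, map_smul, hrr0, Nat.cast_succ]
        module
    have hn : x₀ ^ Nat.card NC = 1 := by
      have h := congrArg Subtype.val (pow_card_eq_one' (x := (⟨x₀, hx₀N⟩ : NC)))
      exact h
    have h := hit (Nat.card NC)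
    rw [hn, LinearEquiv.coe_one, id, eq_comm, add_eq_left, smul_eq_zero] at h
    rw [hx₀x, h.resolve_left (fun h' => hord ((CharP.cast_eq_zero_iff F pc _).1 h')), add_zero]
  have hxw : ∀ v, x₀ (x₀ v) = v + (-(2 : F)) • (-C v) := by
    intro v
    have hfix := hfix1 (v + C v) (by rw [map_add, hC2, add_neg_cancel])
    rw [hx₀x, map_add, hrC, add_eq_left] at hfix
    rw [hsq0]
    have h3 : (3 : F) • (C v + C (r v)) = 0 := by rw [hF3, zero_smul]
    linear_combination (norm := module) (2 : F) • hfix - h3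
  obtain ⟨W, hW, hWiso⟩ := D.pure_of_comm hno hy hr₀ hr₀0 (mul_mem hx₀N hx₀N).1.1
    (mul_mem hx₀N hx₀N).1.2 fun v => by
      show x₀ (x₀ (a v)) = a (x₀ (x₀ v))
      rw [hxw, hxw, map_add, map_smul, map_neg, hCa]
  have hWv : ∀ a' b', x₀ (x₀ (T.tau a' b')) = T.tau (W a') b' := hW
  -- a plane preserved by `x₀` on which it squares to `-1`
  suffices hpl : ∃ δ ∈ L, T.fA δ δ ≠ 0 ∧ W δ = -δ ∧ ∀ b', ∃ b'', x₀ (T.tau δ b') = T.tau δ b'' by
    obtain ⟨δ, hδL, hδδ, hWδ, hpl⟩ := hpl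
    exfalso
    obtain ⟨δ', f', hf', -⟩ := D.exists_plane_map hx₀N.1.1 hδδ ⟨δ, hpl⟩
    have hδ0 : δ ≠ 0 := fun h => hδδ (by simp [h])
    choose f₁ hf₁ using hpl
    let f₀ : B →ₗ[F] B :=
      { toFun := f₁
        map_add' := fun p q => hT.tau_right_inj hδ0 (by
          show T.tau δ (f₁ (p + q)) = T.tau δ (f₁ p + f₁ q)
          rw [map_add, ← hf₁, ← hf₁, ← hf₁, map_add, map_add])
        map_smul' := fun k p => hT.tau_right_inj hδ0 (by
          show T.tau δ (f₁ (k • p)) = T.tau δ (k • f₁ p)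
          rw [map_smul, ← hf₁, ← hf₁, map_smul, map_smul]) }
    have hinj : Function.Injective f₀ := fun p q h => hT.tau_right_inj hδ0 (x₀.injective (by
      show x₀ (T.tau δ p) = x₀ (T.tau δ q)
      rw [hf₁, hf₁, show f₁ p = f₁ q from h]))
    obtain ⟨μ, hμ⟩ := hline x₀ hx₀N.1.1 hx₀N.1.2 δ hδL hδδ (LinearEquiv.ofInjectiveEndo f₀ hinj) hf₁
    have h1 := hWv δ y
    rw [hf₁, hf₁, show f₁ y = μ • y from hμ y, show f₁ (μ • y) = μ • (μ • y) from hμ _, hWδ,
      smul_smul, map_smul, map_neg, LinearMap.neg_apply] at h1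
    have h2 : (μ * μ + 1) • T.tau δ y = 0 := by linear_combination (norm := module) h1
    have h3 : μ * μ + 1 = 0 := (smul_eq_zero.1 h2).resolve_right fun h =>
      hy (hT.tau_right_inj hδ0 (h.trans (map_zero _).symm))
    rcases eq_or_ne μ 0 with rfl | hμ0
    · simp at h3
    · exact D.two (by linear_combination h3 - hsqv μ hμ0)
  have hWW : ∀ a', W (W a') = a' := by
    intro a'
    refine hT.tau_left_inj hy ?_
    show T.tau (W (W a')) y = T.tau a' y
    rw [← hWv, ← hWv, hxw (x₀ (x₀ _)), hxw, map_add, map_smul, map_neg, hC2]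
    have h3 : (3 : F) • C (T.tau a' y) = 0 := by rw [hF3, zero_smul]
    module
  have hWp : ∀ p ∈ perpS T L, W p = p := fun p hp => hT.tau_left_inj hy (by
    show T.tau (W p) y = T.tau p y
    rw [← hWv, hx₀N.1.2 p hp, hx₀N.1.2 p hp])
  have hWL : ∀ l ∈ L, W l ∈ L := fun l hl => by
    have h := D.fixOff_mem hL (mul_mem hx₀N hx₀N).1.1 (mul_mem hx₀N hx₀N).1.2 hl e y
    rw [LinearEquiv.mul_apply, hWv, hT.C_tau, he, one_smul] at h
    exact h
  have hmC : ∀ a' b', (2 : F) • C (T.tau a' b') = T.tau (W a') b' - T.tau a' b' := fun a' b' => by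
    rw [← hWv, hxw]; module
  by_cases hneg : ∀ l ∈ L, W l = -l
  swap
  · -- one dimension
    simp only [not_forall] at hneg
    obtain ⟨l₀, hl₀, hl₀n⟩ := hneg
    have hne : ∃ l ∈ L, W l ≠ l := by
      by_contra hall
      simp only [not_exists, not_and, not_not] at hall
      refine hCC (LinearMap.ext fun v => ?_)
      have hC0 : C v = 0 := LinearMap.congr_fun (hT.ext_tau (f := C) (g := 0) fun a' b' => by
        obtain ⟨l, hl, hp⟩ := D.split hL a'
        have hWa : W a' = a' := by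
          conv_lhs => rw [← add_sub_cancel l a', map_add, hall l hl, hWp _ hp, add_sub_cancel]
        have h := hmC a' b'
        rw [hWa, sub_self, smul_eq_zero] at h
        exact h.resolve_left D.two) v
      show C (C v) = 0
      rw [hC0, map_zero]
    obtain ⟨l₁, hl₁, hl₁n⟩ := hne
    set δ := l₁ - W l₁ with hδ
    set γ := l₀ + W l₀ with hγ
    have hδL : δ ∈ L := L.sub_mem hl₁ (hWL _ hl₁)
    have hγL : γ ∈ L := L.add_mem hl₀ (hWL _ hl₀)
    have hWδ : W δ = -δ := by rw [hδ, map_sub, hWW, neg_sub]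
    have hWγ : W γ = γ := by rw [hγ, map_add, hWW, add_comm]
    have hδ0 : δ ≠ 0 := sub_ne_zero.2 (Ne.symm hl₁n)
    have hγ0 : γ ≠ 0 := fun h => hl₀n (eq_neg_of_add_eq_zero_right h)
    have hγδ : T.fA γ δ = 0 := by
      have h := hWiso γ δ
      rw [hWγ, hWδ, map_neg] at h
      exact (mul_eq_zero.1 (show (2 : F) * T.fA γ δ = 0 by linear_combination -h)).resolve_left D.two
    have hspanL : Submodule.span F ({γ, δ} : Set A) = L := by
      refine Submodule.eq_of_le_of_finrank_le (Submodule.span_le.2 (by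
        rintro x (rfl | rfl); exacts [hγL, hδL])) ?_
      have hli : LinearIndependent F ![γ, δ] := (LinearIndependent.pair_iff' hγ0).2 fun k hk => by
        have h := congrArg W hk
        rw [map_smul, hWγ, hWδ, hk] at h
        have h2 : (2 : F) • δ = 0 := by linear_combination (norm := module) h
        exact hδ0 ((smul_eq_zero.1 h2).resolve_left D.two)
      have h := finrank_span_eq_card hli
      rw [Fintype.card_fin, show Set.range ![γ, δ] = {γ, δ} by simp [Set.pair_comm]] at h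
      omega
    have haniso2 : ∀ x ∈ L, x ≠ 0 → T.fA x γ = 0 → T.fA x δ = 0 → False := fun x hx hx0 e1 e2 =>
      hx0 (hL x hx fun y hy => by
        rw [← hspanL] at hy
        obtain ⟨p, q, rfl⟩ := Submodule.mem_span_pair.1 hy
        simp [e1, e2])
    have hδδ : T.fA δ δ ≠ 0 := fun h => haniso2 δ hδL hδ0 (hT.A_flip_zero hγδ) h
    have hγγ : T.fA γ γ ≠ 0 := fun h => haniso2 γ hγL hγ0 h hγδ
    refine ⟨δ, hδL, hδδ, hWδ, fun b' => ?_⟩
    have hv : x₀ (x₀ (x₀ (T.tau δ b'))) = -x₀ (T.tau δ b') := by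
      rw [hWv, hWδ, map_neg, LinearMap.neg_apply, map_neg]
    have hCw : ∀ w v, T.C w (x₀ (x₀ v)) = W (T.C w v) := fun w v => LinearMap.congr_fun
      (hT.ext_tau (f := T.C w ∘ₗ ((x₀ * x₀ : V ≃ₗ[F] V) : V →ₗ[F] V)) (g := W ∘ₗ T.C w) fun a' b'' => by
        simp [hWv, hT.C_tau]) v
    have hline : ∀ w, ∃ k : F, T.C w (x₀ (T.tau δ b')) = k • δ := by
      intro w
      set c' := T.C w (x₀ (T.tau δ b')) with hc'
      have hc'L : c' ∈ L := D.fixOff_mem hL hx₀N.1.1 hx₀N.1.2 hδL b' w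
      have hWc : W c' = -c' := by rw [hc', ← hCw, hv, map_neg]
      have hcγ : T.fA c' γ = 0 := by
        have h := hWiso c' γ
        rw [hWc, hWγ, map_neg, LinearMap.neg_apply] at h
        exact (mul_eq_zero.1 (show (2 : F) * T.fA c' γ = 0 by linear_combination -h)).resolve_left D.two
      have heq : Submodule.span F {δ} = L ⊓ perpS T (Submodule.span F {γ}) := by
        refine Submodule.eq_of_le_of_finrank_le ((Submodule.span_singleton_le_iff_mem _ _).2
          ⟨hδL, mem_perpS_line.2 (hT.A_flip_zero hγδ)⟩) ?_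
        have := D.finrank_cut_line hγL hγγ
        rw [finrank_span_singleton hδ0]; omega
      have hm : c' ∈ Submodule.span F {δ} := by
        rw [heq]; exact ⟨hc'L, mem_perpS_line.2 hcγ⟩
      obtain ⟨k, hk⟩ := Submodule.mem_span_singleton.1 hm
      exact ⟨k, hk.symm⟩
    obtain ⟨k1, hk1⟩ := hline e
    obtain ⟨k2, hk2⟩ := hline y
    refine ⟨(-k1) • y + k2 • e, sub_eq_zero.1 (hT.C_nondeg fun w => ?_)⟩
    obtain ⟨l, hl⟩ := D.eq_smul_of_B hB hy (show T.fB (w - T.fB w y • e) y = 0 by simp [he])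
    rw [eq_sub_iff_add_eq] at hl
    generalize T.fB w y = k at hl
    subst hl
    simp only [hT.C_add, hT.C_smul, RingHom.id_apply, LinearMap.add_apply, LinearMap.smul_apply,
      map_sub, hT.C_tau, hk1, hk2, map_add, map_smul, LinearMap.add_apply, LinearMap.smul_apply,
      D.altB, he, he', smul_eq_mul]
    module
  -- two dimensions: `C = -1` on `L ⊗ B`
  have hCm : ∀ l ∈ L, ∀ b', C (T.tau l b') = -T.tau l b' := fun l hl b' => by
    refine smul_right_injective V D.two ?_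
    show (2 : F) • _ = (2 : F) • _
    rw [hmC, hneg l hl, map_neg, LinearMap.neg_apply]
    module
  let Pg : A →ₗ[F] A := -(T.C e ∘ₗ (g : V →ₗ[F] V) ∘ₗ T.tau.flip y)
  let Qg : A →ₗ[F] A := T.C y ∘ₗ (g : V →ₗ[F] V) ∘ₗ T.tau.flip y
  have hdec : ∀ v, v = T.tau (-(T.C e v)) y + T.tau (T.C y v) e := fun v =>
    sub_eq_zero.1 (hT.C_nondeg fun w => by
      obtain ⟨l, hl⟩ := D.eq_smul_of_B hB hy (show T.fB (w - T.fB w y • e) y = 0 by simp [he])
      rw [eq_sub_iff_add_eq] at hl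
      generalize T.fB w y = k at hl
      subst hl
      simp only [hT.C_add, hT.C_smul, RingHom.id_apply, LinearMap.add_apply, LinearMap.smul_apply,
        map_sub, map_add, map_neg, hT.C_tau, D.altB, he, he', zero_smul, one_smul, neg_smul, map_smul, smul_eq_mul, LinearMap.neg_apply]
      module)
  have hgy : ∀ l, g (T.tau l y) = T.tau (Pg l) y + T.tau (Qg l) e := fun l => hdec _
  have hPgL : ∀ l ∈ L, Pg l ∈ L := fun l hl => L.neg_mem (D.fixOff_mem hL hg hgfix hl y e)
  have hQgL : ∀ l ∈ L, Qg l ∈ L := fun l hl => D.fixOff_mem hL hg hgfix hl y y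
  have hbg : ∀ l, b (g (T.tau l y)) = 0 := fun l => by
    rw [hbx, inv_ap', hadef, aEnd_apply, hT.C_tau, D.altB, zero_smul, map_zero, LinearMap.zero_apply,
      map_zero]
  have hQinj : ∀ l ∈ L, Qg l = 0 → l = 0 := by
    intro l hl h0
    have h1 : C (g (T.tau l y)) = 0 := by
      rw [hCx, hbg, map_zero, zero_add, hgy, h0, map_zero, LinearMap.zero_apply, add_zero, hadef,
        aEnd_apply, hT.C_tau, D.altB, zero_smul, map_zero, LinearMap.zero_apply, map_zero]
    rw [hgy, h0, map_zero, LinearMap.zero_apply, add_zero, hCm _ (hPgL l hl), neg_eq_zero] at h1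
    have h2 : g (T.tau l y) = 0 := by
      rw [hgy, h0, map_zero, LinearMap.zero_apply, add_zero, h1]
    rw [LinearEquiv.map_eq_zero_iff, ← map_zero (T.tau.flip y)] at h2
    exact hT.tau_left_inj hy h2
  let QL : L →ₗ[F] L := Qg.restrict hQgL
  have hQLi : Function.Injective QL := (injective_iff_map_eq_zero QL).2 fun l h =>
    Subtype.ext (hQinj l l.2 (congrArg Subtype.val h))
  let QE := LinearEquiv.ofBijective QL ⟨hQLi, LinearMap.injective_iff_surjective.1 hQLi⟩
  let Y : A →ₗ[F] A := Pg ∘ₗ L.subtype ∘ₗ QE.symm.toLinearMap ∘ₗ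
    (PL.codRestrict L fun x => by rw [hPL]; exact L.add_mem (L.smul_mem _ hd₁L) (L.smul_mem _ hd₂L))
  have hYU : ∀ l ∈ L, ∃ l₁ ∈ L, g (T.tau l₁ y) = T.tau (Y l) y + T.tau l e := by
    intro l hl
    refine ⟨(QE.symm ⟨l, hl⟩ : A), (QE.symm ⟨l, hl⟩).2, ?_⟩
    rw [hgy]
    have e1 : Qg (QE.symm ⟨l, hl⟩ : A) = l := congrArg Subtype.val (QE.apply_symm_apply ⟨l, hl⟩)
    have e2 : Y l = Pg (QE.symm ⟨l, hl⟩ : A) := by
      show Pg ((QE.symm ⟨PL l, _⟩ : L) : A) = _
      congr 3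
      exact Subtype.ext (hPL1 l hl)
    rw [e1, e2]
  have hYL : ∀ l ∈ L, Y l ∈ L := fun l hl => hPgL _ (SetLike.coe_mem _)
  have hYsym : ∀ l ∈ L, ∀ l' ∈ L, T.fA (Y l) l' = T.fA l (Y l') := by
    intro l hl l' hl'
    obtain ⟨l₁, -, e1⟩ := hYU l hl
    obtain ⟨l₂, -, e2⟩ := hYU l' hl'
    have h := D.isom g hg (T.tau l₁ y) (T.tau l₂ y)
    rw [e1, e2] at h
    simp only [map_add, LinearMap.add_apply, hT.form_tau, D.altB, he, he', mul_zero, zero_add, add_zero,
      mul_one, mul_neg] at h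
    linear_combination -h
  -- `b` on `L ⊗ B`
  have hby : ∀ l ∈ L, b (T.tau l y) = -(T.tau (Y l) y + T.tau l e) := by
    intro l hl
    have hU : ∃ l₂ ∈ L, b (T.tau l y) = g (T.tau l₂ y) := by
      refine ⟨T.C y (g⁻¹ (T.tau l y)), D.fixOff_mem hL (inv_mem hg) (D.fixOff_inv hgfix) hl y y, ?_⟩
      rw [hbx]; rfl
    obtain ⟨l₂, hl₂, e2⟩ := hU
    have h1 := hCm l hl y
    rw [hCx, hadef, aEnd_apply, aEnd_apply, hT.C_tau, D.altB, zero_smul, map_zero, LinearMap.zero_apply,
      map_zero, add_zero, e2, hgy, map_add, hT.C_tau, hT.C_tau, D.altB, he, zero_smul, one_smul,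
      zero_add, ← LinearMap.neg_apply, ← map_neg] at h1
    have hQ : Qg l₂ = -l := hT.tau_left_inj hy h1
    obtain ⟨l₁, hl₁, e1⟩ := hYU l hl
    have hQ1 : Qg l₁ = l := by
      have h := congrArg (T.C y) e1
      rw [map_add, hT.C_tau, hT.C_tau, D.altB, he, zero_smul, one_smul, zero_add] at h
      exact h
    have : l₂ = -l₁ := by
      have h := hQinj (l₂ + l₁) (L.add_mem hl₂ hl₁) (by rw [map_add, hQ, hQ1, neg_add_cancel])
      exact eq_neg_of_add_eq_zero_left h
    rw [e2, this, map_neg, LinearMap.neg_apply, map_neg, e1]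
  have hbe : ∀ l ∈ L, b (T.tau l e) = T.tau (Y (Y l)) y + T.tau (Y l) e := by
    intro l hl
    obtain ⟨l₁, -, e1⟩ := hYU l hl
    have h := hbg l₁
    rw [e1, map_add, hby _ (hYL l hl)] at h
    linear_combination (norm := module) h
  -- an eigenvector or a rotation
  obtain ⟨α, β, hY1⟩ := hsplit _ (hYL _ hd₁L)
  obtain ⟨β', δ', hY2⟩ := hsplit _ (hYL _ hd₂L)
  have hsym := hYsym d₂ hd₂L d₁ hd₁L
  rw [hY1, hY2] at hsym
  simp only [map_add, map_smul, LinearMap.add_apply, LinearMap.smul_apply, smul_eq_mul, h12, h21,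
    mul_zero, add_zero, zero_add] at hsym
  rcases (show (∃ δ ∈ L, T.fA δ δ ≠ 0 ∧ ∃ μ : F, Y δ = μ • δ) ∨ (∃ Ra : A ≃ₗ[F] A,
      (∀ a a', T.fA (Ra a) (Ra a') = T.fA a a') ∧ (∀ l ∈ L, Ra l ∈ L) ∧ (∀ l ∈ L, Ra.symm l ∈ L) ∧
      (∀ p ∈ perpS T L, Ra p = p) ∧ ∀ l ∈ L, Y (Ra (Y (Ra.symm l))) + Ra (Y (Ra.symm (Y l))) -
        Y (Y l) - Ra (Y (Ra.symm (Ra (Y (Ra.symm l))))) = l) by
    by_cases hnorm : T.fA d₂ d₂ = T.fA d₁ d₁
    · have hβ : β' = β := mul_right_cancel₀ hd₁ (by rw [hnorm] at hsym; exact hsym)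
      rw [hβ] at hY2
      have hd12 : T.fA (d₁ - d₂) (d₁ - d₂) ≠ 0 := by
        simp only [map_sub, LinearMap.sub_apply, h12, h21, hnorm, sub_zero, zero_sub, sub_neg_eq_add,
          ← two_mul]
        exact mul_ne_zero D.two hd₁
      by_cases hdiag : β = 0 ∨ α = δ'
      · left
        rcases hdiag with h | h
        · exact ⟨d₁, hd₁L, hd₁, α, by rw [hY1, h, zero_smul, add_zero]⟩
        · refine ⟨d₁ + d₂, L.add_mem hd₁L hd₂L, ?_, α + β, ?_⟩
          · simp only [map_add, LinearMap.add_apply, h12, h21, hnorm, add_zero, zero_add, ← two_mul]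
            exact mul_ne_zero D.two hd₁
          · rw [map_add, hY1, hY2, ← h]; module
      right
      rw [not_or] at hdiag
      have hβ2 := hsqv β hdiag.1
      have hαδ2 := hsqv (α - δ') (sub_ne_zero.2 hdiag.2)
      obtain ⟨R₁, hR₁, hR₁a⟩ := D.exists_refl hd12
      obtain ⟨R₂, hR₂, hR₂a⟩ := D.exists_refl hd₁
      have hRa1 : R₁.trans R₂ d₁ = d₂ := by
        have h : R₁ d₁ = d₂ := by
          rw [hR₁a]
          simp only [map_sub, LinearMap.sub_apply, h12, h21, hnorm, sub_zero, zero_sub, sub_neg_eq_add,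
            ← two_mul]
          rw [div_self (mul_ne_zero D.two hd₁), one_smul, sub_sub_cancel]
        rw [LinearEquiv.trans_apply, h, hR₂a, h21]; simp
      have hRa2 : R₁.trans R₂ d₂ = -d₁ := by
        have h : R₁ d₂ = d₁ := by
          rw [hR₁a]
          simp only [map_sub, LinearMap.sub_apply, h12, h21, hnorm, sub_zero, zero_sub, sub_neg_eq_add,
            ← two_mul, mul_neg, neg_div]
          rw [div_self (mul_ne_zero D.two hd₁), neg_one_smul, sub_neg_eq_add, add_sub_cancel]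
        rw [LinearEquiv.trans_apply, h, hR₂a, mul_div_assoc, div_self hd₁, mul_one]
        module
      have e1 : (R₁.trans R₂).symm d₁ = -d₂ := (R₁.trans R₂).injective (by
        rw [LinearEquiv.apply_symm_apply, map_neg, hRa2, neg_neg])
      have e2 : (R₁.trans R₂).symm d₂ = d₁ := (R₁.trans R₂).injective (by
        rw [LinearEquiv.apply_symm_apply, hRa1])
      refine ⟨R₁.trans R₂, fun p q => by
        rw [LinearEquiv.trans_apply, LinearEquiv.trans_apply, hR₂, hR₁], fun l hl => ?_, fun l hl => ?_,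
        fun p hp => ?_, fun l hl => ?_⟩
      · obtain ⟨p, q, rfl⟩ := hsplit l hl
        rw [map_add, map_smul, map_smul, hRa1, hRa2]
        exact L.add_mem (L.smul_mem _ hd₂L) (L.smul_mem _ (L.neg_mem hd₁L))
      · obtain ⟨p, q, rfl⟩ := hsplit l hl
        rw [map_add, map_smul, map_smul, e1, e2]
        exact L.add_mem (L.smul_mem _ (L.neg_mem hd₂L)) (L.smul_mem _ hd₁L)
      · have h1 : R₁ p = p := by
          rw [hR₁a]; simp [hp d₁ hd₁L, hp d₂ hd₂L]
        rw [LinearEquiv.trans_apply, h1, hR₂a]; simp [hp d₁ hd₁L]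
      · obtain ⟨p, q, rfl⟩ := hsplit l hl
        simp only [map_add, map_smul, map_neg, e1, e2, hY1, hY2, hRa1, hRa2, smul_neg, smul_add]
        match_scalars
        · linear_combination -(p * hαδ2) - 4 * p * hβ2 - p * 2 * hF3
        · linear_combination -(q * hαδ2) - 4 * q * hβ2 - q * 2 * hF3
    · have hd : T.fA d₂ d₂ = -T.fA d₁ d₁ := by
        rcases hpm (T.fA d₂ d₂ / T.fA d₁ d₁) (div_ne_zero hd₂ hd₁) with h | h
        · exact absurd ((div_eq_one_iff_eq hd₁).1 h) hnorm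
        · rw [div_eq_iff hd₁] at h; rw [h, neg_one_mul]
      have hβ : β' = -β := mul_right_cancel₀ hd₁ (by rw [hd] at hsym; linear_combination hsym)
      rw [hβ] at hY2
      by_cases hβ0 : β = 0
      · exact Or.inl ⟨d₁, hd₁L, hd₁, α, by rw [hY1, hβ0, zero_smul, add_zero]⟩
      right
      have hβ2 := hsqv β hβ0
      obtain ⟨R, hR, hRa⟩ := D.exists_refl hd₁
      have e1 : R d₁ = -d₁ := by
        rw [hRa, mul_div_assoc, div_self hd₁, mul_one]; module
      have e2 : R d₂ = d₂ := by rw [hRa, h21]; simp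
      have f1 : R.symm d₁ = -d₁ := R.injective (by rw [LinearEquiv.apply_symm_apply, map_neg, e1, neg_neg])
      have f2 : R.symm d₂ = d₂ := R.injective (by rw [LinearEquiv.apply_symm_apply, e2])
      refine ⟨R, hR, fun l hl => ?_, fun l hl => ?_, fun p hp => ?_, fun l hl => ?_⟩
      · obtain ⟨p, q, rfl⟩ := hsplit l hl
        rw [map_add, map_smul, map_smul, e1, e2]
        exact L.add_mem (L.smul_mem _ (L.neg_mem hd₁L)) (L.smul_mem _ hd₂L)
      · obtain ⟨p, q, rfl⟩ := hsplit l hl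
        rw [map_add, map_smul, map_smul, f1, f2]
        exact L.add_mem (L.smul_mem _ (L.neg_mem hd₁L)) (L.smul_mem _ hd₂L)
      · rw [hRa]; simp [hp d₁ hd₁L]
      · obtain ⟨p, q, rfl⟩ := hsplit l hl
        simp only [map_add, map_smul, map_neg, f1, f2, hY1, hY2, e1, e2, smul_neg, smul_add, neg_smul]
        match_scalars
        · linear_combination 4 * p * hβ2 + p * hF3
        · linear_combination 4 * q * hβ2 + q * hF3) with ⟨δ, hδL, hδδ, μ, hYδ⟩ | ⟨Ra, hRaiso, hRaL, hRsymL, hRperp, hD0⟩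
  · refine ⟨δ, hδL, hδδ, hneg δ hδL, fun b' => ?_⟩
    have hby' : b (T.tau δ y) = T.tau δ ((-μ) • y + (-1 : F) • e) := by
      rw [hby δ hδL, hYδ]
      simp only [map_smul, LinearMap.smul_apply, map_add]
      module
    have hbe' : b (T.tau δ e) = T.tau δ ((μ * μ) • y + μ • e) := by
      rw [hbe δ hδL, hYδ, map_smul Y, hYδ]
      simp only [map_smul, LinearMap.smul_apply, map_add, smul_smul]
    have hay : ∀ c', a (T.tau δ c') = T.tau δ (T.fB c' y • y) := fun c' => by
      rw [hadef, aEnd_apply, hT.C_tau, map_smul, LinearMap.smul_apply, map_smul]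
    have hbmem : ∀ c', ∃ c'', b (T.tau δ c') = T.tau δ c'' := fun c' => by
      obtain ⟨l, hl⟩ := D.eq_smul_of_B hB hy (show T.fB (c' - T.fB c' y • e) y = 0 by simp [he])
      refine ⟨l • ((-μ) • y + (-1 : F) • e) + T.fB c' y • ((μ * μ) • y + μ • e), ?_⟩
      rw [show c' = l • y + T.fB c' y • e by rw [hl, sub_add_cancel], map_add, map_smul, map_smul,
        map_add, map_smul, map_smul, hby', hbe', map_add, map_smul, map_smul]
      simp [he, D.altB]
    obtain ⟨b1, hb1⟩ := hbmem b'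
    obtain ⟨b2, hb2⟩ := hbmem (T.fB b' y • y)
    exact ⟨b' + (b1 - T.fB b' y • y - b2), by
      rw [hx₀x, hrx, hay, hb1, hb2, map_add, map_sub, map_sub]⟩
  -- the rotated pair contradicts the identity
  exfalso
  obtain ⟨Rk, hRk, hRkab⟩ := D.pureA Ra hRaiso
  set b' : Module.End F V := (Rk : V →ₗ[F] V) * b * ((Rk⁻¹ : V ≃ₗ[F] V) : V →ₗ[F] V) with hb'
  have hb'x : ∀ v, b' v = Rk (b (Rk⁻¹ v)) := fun v => rfl
  set g₂ := Rk * g * Rk⁻¹ with hg₂
  have hRfix : ∀ p ∈ perpS T L, ∀ c', Rk (T.tau p c') = T.tau p c' := fun p hp c' => by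
    rw [hRkab, hRperp p hp]
  set h₁ := g⁻¹ * g₂ with hh₁
  have hh₁N : h₁ ∈ D.offSub L := by
    refine mul_mem (inv_mem ⟨hg, hgfix⟩) ?_
    exact mul_mem (mul_mem (⟨hRk, hRfix⟩ : Rk ∈ D.offSub L) ⟨hg, hgfix⟩)
      (inv_mem ⟨hRk, hRfix⟩)
  -- `b'` in terms of `Ra`
  have hRinv : ∀ l c', Rk⁻¹ (T.tau l c') = T.tau (Ra.symm l) c' := fun l c' => Rk.injective (by
    rw [ap_inv, hRkab, LinearEquiv.apply_symm_apply])
  let Y' : A →ₗ[F] A := Ra.toLinearMap ∘ₗ Y ∘ₗ Ra.symm.toLinearMap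
  have hY' : ∀ l, Y' l = Ra (Y (Ra.symm l)) := fun l => rfl
  have hY'L : ∀ l ∈ L, Y' l ∈ L := fun l hl => by
    rw [hY']; exact hRaL _ (hYL _ (hRsymL l hl))
  have hb'y : ∀ l ∈ L, b' (T.tau l y) = -(T.tau (Y' l) y + T.tau l e) := fun l hl => by
    rw [hb'x, hRinv, hby _ (hRsymL l hl), map_neg, map_add, hRkab, hRkab, LinearEquiv.apply_symm_apply,
      hY']
  have hb'e : ∀ l ∈ L, b' (T.tau l e) = T.tau (Y' (Y' l)) y + T.tau (Y' l) e := fun l hl => by
    rw [hb'x, hRinv, hbe _ (hRsymL l hl), map_add, hRkab, hRkab, hY', hY', LinearEquiv.symm_apply_apply]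
  set C' : Module.End F V := b * b' + b' * b with hC'
  have hC'y : ∀ l ∈ L, C' (T.tau l y) = T.tau l y := by
    intro l hl
    show b (b' (T.tau l y)) + b' (b (T.tau l y)) = _
    rw [hb'y l hl, hby l hl, map_neg, map_neg, map_add, map_add, hby _ (hY'L l hl), hbe l hl,
      hb'y _ (hYL l hl), hb'e l hl]
    have hD : Y (Y' l) + Y' (Y l) - Y (Y l) - Y' (Y' l) = l := by
      simp only [hY']; exact hD0 l hl
    conv_rhs => rw [← hD]
    simp only [map_add, map_sub, LinearMap.add_apply, LinearMap.sub_apply]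
    abel
  have hC'C' : C' (C' (T.tau d₁ y)) = T.tau d₁ y := by rw [hC'y _ hd₁L, hC'y _ hd₁L]
  -- apply the identity to `h₁`
  set bh : Module.End F V := (h₁ : V →ₗ[F] V) * a * ((h₁⁻¹ : V ≃ₗ[F] V) : V →ₗ[F] V) with hbh
  have hb'g : ∀ v, b' v = g (bh (g⁻¹ v)) := by
    intro v
    have hRa : ∀ v, Rk (a v) = a (Rk v) := fun v => LinearMap.congr_fun
      (hT.ext_tau (f := (Rk : V →ₗ[F] V) ∘ₗ a) (g := a ∘ₗ (Rk : V →ₗ[F] V)) fun a' c' => by
        show Rk (a (T.tau a' c')) = a (Rk (T.tau a' c'))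
        simp only [hadef, aEnd_apply, hRkab, hT.C_tau, map_smul, LinearMap.smul_apply]) v
    show Rk (g (a (g⁻¹ (Rk⁻¹ v)))) = g (h₁ (a (h₁⁻¹ (g⁻¹ v))))
    have e1 : h₁ = g⁻¹ * (Rk * g * Rk⁻¹) := rfl
    have e2 : h₁⁻¹ = Rk * g⁻¹ * Rk⁻¹ * g := by rw [e1]; group
    rw [e2, e1]
    simp only [LinearEquiv.mul_apply, ap_inv, ← hRa, inv_ap']
  have hgCh : ∀ v, C' v = g ((a * bh + bh * a) (g⁻¹ v)) := fun v => by
    show b (b' v) + b' (b v) = g (a (bh (g⁻¹ v)) + bh (a (g⁻¹ v)))
    rw [hb'g v, hb'g (b v), hbx, hbx, inv_ap', inv_ap', map_add]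
  have hC'sq : ∀ v, C' (C' v) = g ((a * bh + bh * a) ((a * bh + bh * a) (g⁻¹ v))) := fun v => by
    rw [hgCh, hgCh, inv_ap']
  have hz : g⁻¹ (T.tau d₁ y) ≠ 0 := fun h => by
    rw [LinearEquiv.map_eq_zero_iff] at h
    exact hy (hT.tau_right_inj (fun h0 => hd₁ (by simp [h0])) (h.trans (map_zero _).symm))
  set z := g⁻¹ (T.tau d₁ y) with hzdef
  have hfix : (a * bh + bh * a) z = z := g.injective (by
    rw [hzdef, ← hgCh, hC'y _ hd₁L, ap_inv])
  have hcase := D.quad_key_three hno hB (by omega) (pc := pc) hL d2 hh₁N.1 hh₁N.2 hy (c := (1 : F)) (d := 1) one_ne_zero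
    one_ne_zero (by rw [one_add_one_eq_two]; exact D.two)
  have hcq : cQ T y h₁ = a * bh + bh * a := rfl
  rw [hcq] at hcase
  generalize a * bh + bh * a = Q at hfix hcase
  rcases hcase with h | h
  · have h' := LinearMap.congr_fun h z
    rw [Module.End.mul_apply, hfix, hfix] at h'
    exact hz h'
  · have h' := LinearMap.congr_fun h z
    simp only [LinearMap.add_apply, LinearMap.smul_apply, Module.End.mul_apply, mul_one, one_smul,
      LinearMap.zero_apply, hfix] at h'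
    have h3 : (3 : F) • z = 0 := by rw [hF3, zero_smul]
    have h5' : (5 : F) • z = 0 := by
      linear_combination (norm := module) h'
    have h2 : (2 : F) • z = 0 := by linear_combination (norm := module) h5' - h3
    exact hz ((smul_eq_zero.1 h2).resolve_left D.two)

end SpData

end CfsgLib.MaxSub.TForm
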