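import Cfsg.Agent.Lib.MaxSub.Sp8.MinusPlane
import Cfsg.Agent.Lib.MaxSub.TFormSpThreeKron


/-!
`O₄ ⊗ Sp₂` , minus type: purity from two pairs of invariant orthogonal planes, given that planes are good.
-/
set_option autoImplicit false
set_option linter.unusedSectionVars false
set_option linter.unusedSimpArgs false
set_option linter.unusedVariables false
set_option linter.style.haveILetI false

namespace CfsgLib.MaxSub.TForm

open Module

variable {F A B V : Type*} [Field F] [AddCommGroup A] [Module F A] [AddCommGroup B] [Module F B]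
  [AddCommGroup V] [Module F V]

/-- `v` lies in `S ⊗ B` -/
def InS (T : Sys F A B V (RingHom.id F)) (S : Submodule F A) (v : V) : Prop := ∀ w, T.C w v ∈ S

/-- no totally singular plane -/
def Minus (T : Sys F A B V (RingHom.id F)) : Prop :=
  ∀ W : Submodule F A, finrank F W = 2 → ∃ x ∈ W, T.fA x x ≠ 0

namespace SpData

variable {T : Sys F A B V (RingHom.id F)} {H : Subgroup (V ≃ₗ[F] V)}
variable [Finite F] [FiniteDimensional F A] [FiniteDimensional F B] [FiniteDimensional F V]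

theorem fA_C (D : SpData T H) (v : V) (p : A) (w : B) : T.fA (T.C w v) p = T.fB (T.C' p v) w := by
  rw [← D.good.form_C, D.good.form_C']

theorem inS_of_perp (D : SpData T H) {L : Submodule F A} (hL : NDeg T L) {v : V}
    (h : ∀ p ∈ perpS T L, T.C' p v = 0) : InS T L v := fun w =>
  D.perp_perp hL fun p hp => by rw [D.fA_C, h p hp, map_zero, LinearMap.zero_apply]

theorem C'_of_inS (D : SpData T H) {L : Submodule F A} {v : V} (h : InS T L v) {p : A}
    (hp : ∀ l ∈ L, T.fA p l = 0) : T.C' p v = 0 :=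
  D.good.nondegB _ fun w => by rw [← D.fA_C, D.symA p, hp _ (h w)]

theorem C'_add_smul (D : SpData T H) {p q : A} {v : V} (hp : T.C' p v = 0) (hq : T.C' q v = 0) (r s : F) :
    T.C' (r • p + s • q) v = 0 :=
  D.good.nondegB _ fun w => by
    rw [← D.fA_C, map_add, map_smul, map_smul, D.fA_C, D.fA_C, hp, hq]
    simp

theorem eq_zero_of_inS (D : SpData T H) {L : Submodule F A} (hL : NDeg T L) {v : V} (h : InS T L v)
    (h' : InS T (perpS T L) v) : v = 0 :=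
  D.good.C_nondeg fun w => hL _ (h w) fun l hl => h' w l hl

theorem pure_of_inS_line (D : SpData T H) {c : A} (hc : c ≠ 0) {v : V}
    (h : InS T (Submodule.span F {c}) v) : ∃ b, v = T.tau c b := D.rank_one hc h

/-- a pure plane from its preimage -/
theorem plane_of_back (D : SpData T H) {g : V ≃ₗ[F] V} {δ u : A} (hδ : T.fA δ δ ≠ 0) (hu : u ≠ 0)
    (hb : ∀ b, ∃ b', g⁻¹ (T.tau u b) = T.tau δ b') : PlaneP T g δ := by
  let f₀ : B →ₗ[F] B := (T.fA δ δ)⁻¹ • (T.C' δ ∘ₗ ((g⁻¹ : V ≃ₗ[F] V) : V →ₗ[F] V) ∘ₗ T.tau u)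
  have hf₀ : ∀ b, g⁻¹ (T.tau u b) = T.tau δ (f₀ b) := fun b => by
    obtain ⟨b', hb'⟩ := hb b
    rw [hb']
    congr 1
    show b' = (T.fA δ δ)⁻¹ • T.C' δ (g⁻¹ (T.tau u b))
    rw [hb', D.good.C'_tau, inv_smul_smul₀ hδ]
  have hinj : Function.Injective f₀ := fun b b' e => D.good.tau_right_inj hu (g⁻¹.injective (by
    show g⁻¹ (T.tau u b) = g⁻¹ (T.tau u b')
    rw [hf₀, hf₀, e]))
  refine ⟨u, fun b => ?_⟩
  obtain ⟨b', hb'⟩ := LinearMap.injective_iff_surjective.1 hinj b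
  exact ⟨b', by rw [← hb', ← hf₀, ap_inv]⟩

/-- the map on a preserved plane -/
theorem map_of_self (D : SpData T H) {g : V ≃ₗ[F] V} (hg : g ∈ H) {δ : A} (hδ : T.fA δ δ ≠ 0)
    (hfix : ∀ b, ∃ b', g (T.tau δ b) = T.tau δ b') :
    ∃ f : B ≃ₗ[F] B, (∀ b, g (T.tau δ b) = T.tau δ (f b)) ∧ ∀ b b', T.fB (f b) (f b') = T.fB b b' := by
  have hδ0 : δ ≠ 0 := fun e => hδ (by simp [e])
  let f₀ : B →ₗ[F] B := (T.fA δ δ)⁻¹ • (T.C' δ ∘ₗ (g : V →ₗ[F] V) ∘ₗ T.tau δ)
  have hf₀ : ∀ b, g (T.tau δ b) = T.tau δ (f₀ b) := fun b => by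
    obtain ⟨b', hb'⟩ := hfix b
    rw [hb']
    congr 1
    show b' = (T.fA δ δ)⁻¹ • T.C' δ (g (T.tau δ b))
    rw [hb', D.good.C'_tau, inv_smul_smul₀ hδ]
  have hinj : Function.Injective f₀ := fun b b' e => D.good.tau_right_inj hδ0 (g.injective (by
    show g (T.tau δ b) = g (T.tau δ b')
    rw [hf₀, hf₀, e]))
  refine ⟨LinearEquiv.ofInjectiveEndo f₀ hinj, hf₀, fun b b' => ?_⟩
  have h := D.isom g hg (T.tau δ b) (T.tau δ b')
  rw [hf₀, hf₀, D.good.form_tau, D.good.form_tau] at h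
  exact mul_left_cancel₀ hδ h

/-- the involution negating `⟨δ, e⟩ ⊗ B` -/
theorem exists_pInvol (D : SpData T H) {δ e : A} (hδ : T.fA δ δ ≠ 0) (he : T.fA e e ≠ 0)
    (hδe : T.fA δ e = 0) :
    ∃ z ∈ H, (∀ v, z (z v) = v) ∧ (∀ v, T.C' δ v = 0 → T.C' e v = 0 → z v = v) ∧
      (∀ v, z v = v → T.C' δ v = 0 ∧ T.C' e v = 0) ∧
      (∀ v, z v = -v → InS T (Submodule.span F ({δ, e} : Set A)) v) ∧
      (∀ b, z (T.tau δ b) = -T.tau δ b) ∧ ∀ b, z (T.tau e b) = -T.tau e b := by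
  have hT := D.good
  have heδ : T.fA e δ = 0 := hT.A_flip_zero hδe
  obtain ⟨r₁, hr₁, hr₁ab, hr₁x⟩ := D.exists_iRefl hδ
  obtain ⟨r₂, hr₂, -, hr₂x⟩ := D.exists_iRefl he
  have hz : ∀ v, (r₁ * r₂) v =
      v - (2 / T.fA δ δ) • T.tau δ (T.C' δ v) - (2 / T.fA e e) • T.tau e (T.C' e v) := fun v => by
    show r₁ (r₂ v) = _
    rw [hr₂x, map_sub, map_smul, hr₁ab, heδ, mul_zero, zero_div, zero_smul, sub_zero, hr₁x]
  have hCd : ∀ v, T.C' δ ((r₁ * r₂) v) = -T.C' δ v := fun v => by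
    rw [hz, map_sub, map_sub, map_smul, map_smul, hT.C'_tau, hT.C'_tau, heδ, smul_smul,
      div_mul_cancel₀ _ hδ]
    module
  have hCe : ∀ v, T.C' e ((r₁ * r₂) v) = -T.C' e v := fun v => by
    rw [hz, map_sub, map_sub, map_smul, map_smul, hT.C'_tau, hT.C'_tau, hδe, zero_smul, smul_zero, smul_smul,
      div_mul_cancel₀ _ he]
    module
  have hneg : ∀ b, (r₁ * r₂) (T.tau δ b) = -T.tau δ b := fun b => by
    rw [hz, hT.C'_tau, hT.C'_tau, hδe, zero_smul, map_zero, smul_zero, sub_zero, map_smul, smul_smul,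
      div_mul_cancel₀ _ hδ]
    module
  have hneg' : ∀ b, (r₁ * r₂) (T.tau e b) = -T.tau e b := fun b => by
    rw [hz, hT.C'_tau, hT.C'_tau, heδ, zero_smul, map_zero, smul_zero, sub_zero, map_smul, smul_smul,
      div_mul_cancel₀ _ he]
    module
  refine ⟨r₁ * r₂, mul_mem hr₁ hr₂, fun v => ?_, fun v h1 h2 => ?_, fun v hv => ?_, fun v hv w => ?_,
    hneg, hneg'⟩
  · rw [hz ((r₁ * r₂) v), hCd, hCe, hz, map_neg, map_neg]
    module
  · rw [hz, h1, h2]; simp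
  · have h1 := hCd v
    have h2 := hCe v
    rw [hv] at h1 h2
    constructor
    · exact (smul_eq_zero.1 (show (2 : F) • T.C' δ v = 0 by linear_combination (norm := module) h1)).resolve_left D.two
    · exact (smul_eq_zero.1 (show (2 : F) • T.C' e v = 0 by linear_combination (norm := module) h2)).resolve_left D.two
  · have h : (2 : F) • v = (2 / T.fA δ δ) • T.tau δ (T.C' δ v) + (2 / T.fA e e) • T.tau e (T.C' e v) := by
      rw [hz] at hv
      linear_combination (norm := module) hv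
    have h' := congrArg (T.C w) h
    rw [map_add, map_smul, map_smul, map_smul, hT.C_tau, hT.C_tau] at h'
    refine (Submodule.smul_mem_iff _ D.two).1 ?_
    rw [h']
    exact add_mem (Submodule.smul_mem _ _ (Submodule.smul_mem _ _ (Submodule.subset_span (Set.mem_insert _ _))))
      (Submodule.smul_mem _ _ (Submodule.smul_mem _ _
        (Submodule.subset_span (Set.mem_insert_of_mem _ rfl))))

/-- a pure involution is `M ⊗ 1`, minus type -/
theorem invol_pure_four (D : SpData T H) (hm : Minus T) (hA : finrank F A = 4) (hB : finrank F B = 2)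
    {κ : V ≃ₗ[F] V} (hκ : κ ∈ H) (h2 : ∀ v, κ (κ v) = v) (hK : IsKron T κ) :
    ∃ M : A →ₗ[F] A, (∀ a b, κ (T.tau a b) = T.tau (M a) b) ∧
      (∀ a a', T.fA (M a) (M a') = T.fA a a') ∧ (∀ a, M (M a) = a) ∧
      ∀ w v, T.C w (κ v) = M (T.C w v) := by
  have hT := D.good
  obtain ⟨M, f, hMf⟩ := hK
  haveI := Module.nontrivial_of_finrank_pos (R := F) (M := B) (by omega)
  haveI := Module.nontrivial_of_finrank_pos (R := F) (M := A) (by omega)
  obtain ⟨a₀, ha₀⟩ := exists_ne (0 : A)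
  obtain ⟨y, hy⟩ := exists_ne (0 : B)
  obtain ⟨x₀, hx₀⟩ : ∃ x, T.fA a₀ x ≠ 0 := by
    by_contra h
    simp only [not_exists, not_not] at h
    exact ha₀ (hT.nondegA a₀ h)
  have hsq : ∀ a b, T.tau (M (M a)) (f (f b)) = T.tau a b := fun a b => by rw [← hMf, ← hMf, h2]
  -- `f` squares to a scalar
  obtain ⟨μ, hμ0, hμ⟩ : ∃ μ : F, μ ≠ 0 ∧ ∀ b, f (f b) = μ • b := by
    have h : ∀ b, T.fA (M (M a₀)) x₀ • f (f b) = T.fA a₀ x₀ • b := fun b => by
      rw [← hT.C'_tau, ← hT.C'_tau, hsq]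
    have hc : T.fA (M (M a₀)) x₀ ≠ 0 := fun e => hy ((smul_eq_zero.1 (by
      rw [← h y, e, zero_smul] : T.fA a₀ x₀ • y = 0)).resolve_left hx₀)
    refine ⟨T.fA a₀ x₀ / T.fA (M (M a₀)) x₀, div_ne_zero hx₀ hc, fun b => smul_right_injective B hc ?_⟩
    show T.fA (M (M a₀)) x₀ • f (f b) = _
    rw [h]
    show T.fA a₀ x₀ • b = T.fA (M (M a₀)) x₀ • ((T.fA a₀ x₀ / T.fA (M (M a₀)) x₀) • b)
    rw [smul_smul, mul_div_cancel₀ _ hc]
  have hMM : ∀ a, μ • M (M a) = a := fun a => hT.tau_left_inj hy (by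
    show T.tau (μ • M (M a)) y = T.tau a y
    rw [map_smul, LinearMap.smul_apply, ← map_smul (T.tau (M (M a))), ← hμ, hsq])
  by_cases hscal : ∃ k : F, ∀ b, f b = k • b
  · obtain ⟨k, hk⟩ := hscal
    have hN : ∀ a b, κ (T.tau a b) = T.tau ((k • M) a) b := fun a b => by
      rw [hMf, hk, LinearMap.smul_apply]; simp
    refine ⟨k • M, hN, fun a a' => ?_, fun a => hT.tau_left_inj hy ?_, fun w v => ?_⟩
    · obtain ⟨c, hc, -⟩ := hT.exists_partner hy
      have h := D.isom κ hκ (T.tau a c) (T.tau a' y)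
      rwa [hN, hN, hT.form_tau, hT.form_tau, hc, mul_one, mul_one] at h
    · show T.tau ((k • M) ((k • M) a)) y = T.tau a y
      rw [← hN, ← hN, h2]
    · exact LinearMap.congr_fun (hT.ext_tau (f := T.C w ∘ₗ (κ : V →ₗ[F] V)) (g := (k • M) ∘ₗ T.C w)
        fun a b => by
          show T.C w (κ (T.tau a b)) = (k • M) (T.C w (T.tau a b))
          rw [hN, hT.C_tau, hT.C_tau, map_smul]) v
  exfalso
  obtain ⟨y₀, hy₀⟩ : ∃ y₀, T.fB y₀ (f y₀) ≠ 0 := by
    by_contra h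
    simp only [not_exists, not_not] at h
    obtain ⟨k, hk⟩ := LinearMap.exists_eq_smul_id_of_forall_notLinearIndependent (f := f) fun b hli => by
      obtain ⟨l, hl⟩ := D.eq_smul_of_B hB (hli.ne_zero 0) (hT.B_flip_zero (h b))
      exact (LinearIndependent.pair_iff' (hli.ne_zero 0)).1 hli l hl
    exact hscal ⟨k, fun b => by simpa using LinearMap.congr_fun hk b⟩
  -- `M` is skew
  have hskew : ∀ a a', T.fA (M a) a' = -T.fA a (M a') := fun a a' => by
    have h := D.isom κ hκ (T.tau a y₀) (T.tau (M a') (f y₀))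
    rw [hMf, hMf, hμ, hT.form_tau, hT.form_tau, map_smul (T.fB _), smul_eq_mul, D.swapB y₀ (f y₀)] at h
    apply mul_right_cancel₀ hy₀
    conv_lhs => rw [← hMM a', map_smul, smul_eq_mul]
    linear_combination -h
  have htwo : ∀ u w, LinearIndependent F ![u, w] → T.fA u u = 0 → T.fA w w = 0 → T.fA u w = 0 → False := by
    intro u w hli hu hw huw
    have hfr := finrank_span_eq_card hli
    rw [Fintype.card_fin] at hfr
    obtain ⟨x, hx, hxx⟩ := hm _ hfr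
    obtain ⟨c, rfl⟩ := (Submodule.mem_span_range_iff_exists_fun F).1 hx
    apply hxx
    simp [Fin.sum_univ_two, hu, hw, huw, D.symA u w]
  obtain ⟨r, hr0, hr⟩ := D.exists_iso
  have hrM : T.fA r (M r) = 0 := by
    have h := hskew r r
    rw [D.symA r (M r)] at h
    exact (mul_eq_zero.1 (show (2 : F) * T.fA r (M r) = 0 by linear_combination h)).resolve_left D.two
  have hMrMr : T.fA (M r) (M r) = 0 := by
    have h := hskew r (M r)
    have h' : μ * T.fA r (M (M r)) = 0 := by rw [← smul_eq_mul, ← map_smul, hMM, hr]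
    rw [h, (mul_eq_zero.1 h').resolve_left hμ0, neg_zero]
  by_cases hli : LinearIndependent F ![r, M r]
  · exact htwo r (M r) hli hr hMrMr hrM
  -- an eigenvalue
  obtain ⟨k, hk⟩ : ∃ k : F, k • r = M r := by
    by_contra h
    exact hli ((LinearIndependent.pair_iff' hr0).2 fun k hk => h ⟨k, hk⟩)
  have hμk : μ * (k * k) = 1 := by
    have h := hMM r
    rw [← hk, map_smul, ← hk, smul_smul, smul_smul] at h
    have h' : (μ * k * k) • r = (1 : F) • r := h.trans (one_smul F r).symm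
    have h'' := smul_left_injective F hr0 h'
    linear_combination h''
  have hk0 : k ≠ 0 := fun e => by rw [e] at hμk; simp at hμk
  let E : F → Submodule F A := fun s => LinearMap.ker (M - s • LinearMap.id)
  have hE : ∀ s x, x ∈ E s ↔ M x = s • x := fun s x => by
    show (M - s • (LinearMap.id : A →ₗ[F] A)) x = 0 ↔ _
    simp [sub_eq_zero]
  have hsum : E k ⊔ E (-k) = ⊤ := eq_top_iff.2 fun x _ => by
    have hx : x = (2 * k)⁻¹ • ((k • x + M x) + (k • x - M x)) := by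
      rw [show (k • x + M x) + (k • x - M x) = (2 * k) • x by module, smul_smul,
        inv_mul_cancel₀ (mul_ne_zero D.two hk0), one_smul]
    have hMMx : M (M x) = (k * k) • x := by
      conv_rhs => rw [← hMM x, smul_smul, mul_comm (k * k), hμk, one_smul]
    rw [hx]
    refine Submodule.smul_mem _ _ (Submodule.add_mem_sup ((hE _ _).2 ?_) ((hE _ _).2 ?_))
    · rw [map_add, map_smul, hMMx]; module
    · rw [map_sub, map_smul, hMMx]; module
  have hEdim : ∀ s, s ≠ 0 → finrank F (E s) ≤ 1 := fun s hs => by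
    by_contra hlt
    obtain ⟨u, hu⟩ := exists_linearIndependent_of_le_finrank (R := F) (M := E s) (n := 2) (by omega)
    have hts : ∀ i j, T.fA (u i : A) (u j : A) = 0 := fun i j => by
      have h := hskew (u i : A) (u j : A)
      rw [(hE _ _).1 (u i).2, (hE _ _).1 (u j).2] at h
      simp only [map_smul, LinearMap.smul_apply, smul_eq_mul] at h
      exact (mul_eq_zero.1 (show (2 * s) * T.fA (u i : A) (u j : A) = 0 by linear_combination h)).resolve_left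
        (mul_ne_zero D.two hs)
    exact htwo (u 0 : A) (u 1 : A) (by
      have h' := hu.map' (E s).subtype (Submodule.ker_subtype _)
      have he : ((E s).subtype ∘ u) = ![(u 0 : A), (u 1 : A)] := by
        funext i; fin_cases i <;> rfl
      rwa [he] at h') (hts 0 0) (hts 1 1) (hts 0 1)
  have h4 := Submodule.finrank_sup_add_finrank_inf_eq (E k) (E (-k))
  rw [hsum, finrank_top, hA] at h4
  have := hEdim k hk0
  have := hEdim (-k) (neg_ne_zero.2 hk0)
  omega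

/-- purity from pure planes, whole space -/
theorem glue_gen (D : SpData T H) {g : V ≃ₗ[F] V} (hg : g ∈ H) {P : Set A} (hspan : Submodule.span F P = ⊤)
    (hpl : ∀ δ ∈ P, T.fA δ δ ≠ 0 ∧ PlaneP T g δ) {δ₀ : A} (hδ₀P : δ₀ ∈ P)
    (hvgood : ∀ v ∈ H, (∀ δ₀' (f₀ : B ≃ₗ[F] B), (∀ b, g (T.tau δ₀ b) = T.tau δ₀' (f₀ b)) →
        ∀ b, v (T.tau δ₀' b) = T.tau δ₀' b) →
      (∀ δ ∈ P, ∀ δ' (f : B ≃ₗ[F] B), (∀ b, g (T.tau δ b) = T.tau δ' (f b)) →
        ∀ b, ∃ b', v (T.tau δ' b) = T.tau δ' b') → IsKron T v) : IsKron T g := by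
  haveI := Module.nontrivial_of_finrank_pos (R := F) (M := A) (by have := D.dimA; omega)
  haveI := Module.nontrivial_of_finrank_pos (R := F) (M := B) (by have := D.dimB; omega)
  obtain ⟨hδ₀, hp₀⟩ := hpl δ₀ hδ₀P
  obtain ⟨δ₀', f₀, hf₀, hδ₀'⟩ := D.exists_plane_map hg hδ₀ hp₀
  have hδ₀'0 : δ₀' ≠ 0 := fun e => hδ₀' (by simp [e])
  have hm : ∀ b c, T.fB (f₀.symm b) c = T.fA δ₀' δ₀' / T.fA δ₀ δ₀ * T.fB b (f₀ c) := fun b c => by
    have h := D.isom g hg (T.tau δ₀ (f₀.symm b)) (T.tau δ₀ c)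
    rw [hf₀, hf₀, LinearEquiv.apply_symm_apply, D.good.form_tau, D.good.form_tau] at h
    rw [div_mul_eq_mul_div, eq_div_iff hδ₀, mul_comm, ← h]
  refine D.kron_of_span (gl := (g : V →ₗ[F] V)) (fun _ => rfl) (f := f₀.toLinearMap) hspan ?_ ?_
  swap
  · haveI := Module.nontrivial_of_finrank_pos (R := F) (M := B) (by have := D.dimB; omega)
    obtain ⟨b₀, hb₀⟩ := exists_ne (0 : B)
    exact ⟨b₀, fun e => hb₀ (f₀.map_eq_zero_iff.1 e)⟩
  intro δ hδP
  obtain ⟨hδ, hp⟩ := hpl δ hδP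
  obtain ⟨δ', f, hf, hδ'⟩ := D.exists_plane_map hg hδ hp
  suffices ∃ c : F, ∀ b, (f.trans f₀.symm) b = c • b by
    obtain ⟨c, hc⟩ := this
    refine ⟨c • δ', fun b => ?_⟩
    have h : f b = c • f₀ b := f₀.symm.injective (by
      rw [map_smul, LinearEquiv.symm_apply_apply]; exact hc b)
    rw [hf, h, map_smul, map_smul, LinearMap.smul_apply]
    rfl
  refine D.scalar_of_comm _ fun y hy => ?_
  obtain ⟨t, ht, htx⟩ := D.tvB y 1
  replace htx : ∀ a c, t (T.tau a c) = T.tau a (c + T.fB c y • y) := fun a c => by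
    refine (htx _).trans ?_
    simp [D.good.C_tau]
  set μ := T.fA δ₀' δ₀' / T.fA δ₀ δ₀ with hμ
  obtain ⟨k, hk, hkx⟩ := D.tvB (f₀ y) (-μ)
  replace hkx : ∀ a c, k (T.tau a c) = T.tau a (c - (μ * T.fB c (f₀ y)) • f₀ y) := fun a c => by
    refine (hkx _).trans ?_
    simp [D.good.C_tau, smul_smul, sub_eq_add_neg]
  have hv : g * t * g⁻¹ * k ∈ H := mul_mem (mul_mem (mul_mem hg ht) (inv_mem hg)) hk
  have hvt : ∀ (a a' : A) (h : B ≃ₗ[F] B), (∀ b, g (T.tau a b) = T.tau a' (h b)) → ∀ b,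
      (g * t * g⁻¹ * k) (T.tau a' b) = T.tau a' (h (h.symm (b - (μ * T.fB b (f₀ y)) • f₀ y) +
        T.fB (h.symm (b - (μ * T.fB b (f₀ y)) • f₀ y)) y • y)) := fun a a' h hh b => by
    show g (t (g⁻¹ (k (T.tau a' b)))) = _
    have hi : ∀ c, g⁻¹ (T.tau a' c) = T.tau a (h.symm c) := fun c => by
      apply g.injective
      rw [ap_inv, hh, LinearEquiv.apply_symm_apply]
    rw [hkx, hi, htx, hh]
  have hfixv : ∀ b, (g * t * g⁻¹ * k) (T.tau δ₀' b) = T.tau δ₀' b := fun b => by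
    rw [hvt δ₀ δ₀' f₀ hf₀ b]
    congr 1
    rw [map_add, LinearEquiv.apply_symm_apply, map_smul, hm, map_sub (T.fB), LinearMap.sub_apply,
      map_smul (T.fB), LinearMap.smul_apply, D.altB, smul_zero, sub_zero, sub_add_cancel]
  have hsame : ∀ δ₀'' (f₀' : B ≃ₗ[F] B), (∀ b, g (T.tau δ₀ b) = T.tau δ₀'' (f₀' b)) →
      ∀ b, (g * t * g⁻¹ * k) (T.tau δ₀'' b) = T.tau δ₀'' b := fun δ₀'' f₀' hf₀' b => by
    obtain ⟨b₀, hb₀⟩ := exists_ne (0 : B)
    obtain ⟨e, he, -⟩ := D.good.exists_partner hb₀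
    have h0 := congrArg (T.C b₀) ((hf₀' (f₀'.symm e)).symm.trans (hf₀ (f₀'.symm e)))
    rw [LinearEquiv.apply_symm_apply, D.good.C_tau, D.good.C_tau, he, one_smul] at h0
    rw [h0, map_smul, LinearMap.smul_apply, map_smul, hfixv]
  obtain ⟨M, hM, -⟩ := D.pure_form hv (hvgood _ hv hsame fun δ₁ _ δ₁' f₁ hf₁ b =>
    ⟨_, hvt δ₁ δ₁' f₁ hf₁ b⟩) hδ₀'0 hfixv
  obtain ⟨x, hx⟩ : ∃ x, T.fA δ' x ≠ 0 := ⟨δ', hδ'⟩
  refine ⟨T.fA (M δ') x / T.fA δ' x, fun b => ?_⟩
  have h1 := hM δ' (f b + (μ * T.fB (f b) (f₀ y)) • f₀ y)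
  rw [hvt δ δ' f hf, map_add (T.fB), LinearMap.add_apply, map_smul (T.fB), LinearMap.smul_apply,
    D.altB, smul_zero, add_zero, add_sub_cancel_right, LinearEquiv.symm_apply_apply] at h1
  have h2 := congrArg (T.C' x) h1
  rw [D.good.C'_tau, D.good.C'_tau] at h2
  apply smul_right_injective B hx
  show T.fA δ' x • f₀.symm (f (b + T.fB b y • y)) = T.fA δ' x • (T.fA (M δ') x / T.fA δ' x) •
    (f₀.symm (f b) + T.fB (f₀.symm (f b)) y • y)
  rw [smul_smul, mul_div_cancel₀ _ hx, hm, ← map_smul, h2, map_smul]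
  congr 1
  simp [smul_smul]

/-- an element preserving two orthogonal non-degenerate planes is pure -/
theorem kron_of_split (D : SpData T H) (hgood : ∀ L, NDeg T L → finrank F L = 2 → Good T H L)
    (hm : Minus T) (hA : finrank F A = 4) {L : Submodule F A} (hL : NDeg T L) (hL2 : finrank F L = 2)
    {g : V ≃ₗ[F] V} (hg : g ∈ H) (hin : ∀ a ∈ L, ∀ b, InS T L (g (T.tau a b)))
    (hin' : ∀ a ∈ perpS T L, ∀ b, InS T (perpS T L) (g (T.tau a b))) : IsKron T g := by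
  classical
  have hT := D.good
  have hL' := D.ndeg_perp hL
  have hL2' : finrank F (perpS T L) = 2 := by have := D.finrank_perpS hL; omega
  set P : Set A := {a | a ∈ L ∧ T.fA a a ≠ 0} ∪ {a | a ∈ perpS T L ∧ T.fA a a ≠ 0} with hP
  have hspan : Submodule.span F P = ⊤ := eq_top_iff.2 fun a _ => by
    obtain ⟨l, hl, hp⟩ := D.split hL a
    rw [← add_sub_cancel l a, hP, Submodule.span_union]
    exact Submodule.add_mem_sup (D.span_aniso hL hl) (D.span_aniso hL' hp)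
  have hplane : ∀ a ∈ P, T.fA a a ≠ 0 ∧ PlaneP T g a := by
    rintro a (⟨ha, haa⟩ | ⟨ha, haa⟩)
    · exact ⟨haa, D.plane_of_good hL (hgood L hL hL2) (by omega) hg haa (hin a ha)⟩
    · exact ⟨haa, D.plane_of_good hL' (hgood _ hL' hL2') (by omega) hg haa (hin' a ha)⟩
  -- two orthogonal vectors in one of the planes with anisotropic sum
  obtain ⟨d₁, d₂, h1P, h2P, h3P, h12, h1, h2⟩ : ∃ d₁ d₂ : A, d₁ ∈ P ∧ d₂ ∈ P ∧ d₁ + d₂ ∈ P ∧
      T.fA d₁ d₂ = 0 ∧ T.fA d₁ d₁ ≠ 0 ∧ T.fA d₂ d₂ ≠ 0 := by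
    obtain ⟨d₁, d₂, h1L, h2L, h1, h2, h12, -⟩ := D.basis_two hL hL2
    by_cases hs : T.fA (d₁ + d₂) (d₁ + d₂) = 0
    swap
    · exact ⟨d₁, d₂, Or.inl ⟨h1L, h1⟩, Or.inl ⟨h2L, h2⟩, Or.inl ⟨L.add_mem h1L h2L, hs⟩, h12, h1, h2⟩
    obtain ⟨e₁, e₂, h1L', h2L', g1, g2, g12, -⟩ := D.basis_two hL' hL2'
    by_cases hs' : T.fA (e₁ + e₂) (e₁ + e₂) = 0
    swap
    · exact ⟨e₁, e₂, Or.inr ⟨h1L', g1⟩, Or.inr ⟨h2L', g2⟩, Or.inr ⟨(perpS T L).add_mem h1L' h2L', hs'⟩,
        g12, g1, g2⟩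
    exfalso
    have o1 : T.fA e₁ d₁ = 0 := h1L' d₁ h1L
    have o2 : T.fA e₁ d₂ = 0 := h1L' d₂ h2L
    have o3 : T.fA e₂ d₁ = 0 := h2L' d₁ h1L
    have o4 : T.fA e₂ d₂ = 0 := h2L' d₂ h2L
    have hli : LinearIndependent F ![d₁ + d₂, e₁ + e₂] := (LinearIndependent.pair_iff' fun h0 => h1 (by
        have h := congrArg (fun x => T.fA x d₁) h0
        simpa [D.symA d₁ d₂, h12] using h)).2 fun k hk => g1 (by
      have h := congrArg (fun x => T.fA x e₁) hk
      simp [D.symA e₁ d₁, o1, D.symA e₁ d₂, o2, D.symA e₁ e₂, g12] at h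
      exact h.symm)
    have hfr := finrank_span_eq_card hli
    rw [Fintype.card_fin] at hfr
    obtain ⟨x, hx, hxx⟩ := hm _ hfr
    obtain ⟨c, rfl⟩ := (Submodule.mem_span_range_iff_exists_fun F).1 hx
    apply hxx
    simp only [map_add, LinearMap.add_apply] at hs hs'
    simp only [Fin.sum_univ_two, Matrix.cons_val_zero, Matrix.cons_val_one, map_add, map_smul,
      LinearMap.add_apply, LinearMap.smul_apply, smul_eq_mul, o1, o2, o3, o4, D.symA e₁ d₁, D.symA e₁ d₂,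
      D.symA e₂ d₁, D.symA e₂ d₂]
    linear_combination c 0 * c 0 * hs + c 1 * c 1 * hs'
  refine D.glue_gen hg hspan hplane h1P fun v hv hv₀ hvP => ?_
  obtain ⟨δ₁, f₁, hf₁, hδ₁⟩ := D.exists_plane_map hg h1 (hplane _ h1P).2
  obtain ⟨δ₂, f₂, hf₂, hδ₂⟩ := D.exists_plane_map hg h2 (hplane _ h2P).2
  obtain ⟨δ₃, f₃, hf₃, hδ₃⟩ := D.exists_plane_map hg (hplane _ h3P).1 (hplane _ h3P).2
  have h12' : T.fA δ₁ δ₂ = 0 := D.plane_orth hg hf₁ hf₂ h12
  have h21' : T.fA δ₂ δ₁ = 0 := hT.A_flip_zero h12'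
  have hfix1 : ∀ b, v (T.tau δ₁ b) = T.tau δ₁ b := hv₀ δ₁ f₁ hf₁
  have hδ₁0 : δ₁ ≠ 0 := fun e => hδ₁ (by simp [e])
  have hδ₂0 : δ₂ ≠ 0 := fun e => hδ₂ (by simp [e])
  have hδ₃0 : δ₃ ≠ 0 := fun e => hδ₃ (by simp [e])
  choose h₂ hh₂ using hvP _ h2P δ₂ f₂ hf₂
  choose h₃ hh₃ using hvP _ h3P δ₃ f₃ hf₃
  have hsum : ∀ b, T.tau δ₃ (f₃ b) = T.tau δ₁ (f₁ b) + T.tau δ₂ (f₂ b) := fun b => by
    rw [← hf₃, map_add T.tau, LinearMap.add_apply, map_add g, hf₁, hf₂]
  -- `δ₃` lies in the plane, off both lines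
  haveI := Module.nontrivial_of_finrank_pos (R := F) (M := B) (by have := D.dimB; omega)
  obtain ⟨b₀, hb₀⟩ := exists_ne (0 : B)
  have c1 : ∀ b, T.fA δ₁ δ₁ • f₁ b = T.fA δ₃ δ₁ • f₃ b := fun b => by
    have h := congrArg (T.C' δ₁) (hsum b)
    rw [map_add, hT.C'_tau, hT.C'_tau, hT.C'_tau, h21', zero_smul, add_zero] at h
    exact h.symm
  have c2 : ∀ b, T.fA δ₂ δ₂ • f₂ b = T.fA δ₃ δ₂ • f₃ b := fun b => by
    have h := congrArg (T.C' δ₂) (hsum b)
    rw [map_add, hT.C'_tau, hT.C'_tau, hT.C'_tau, h12', zero_smul, zero_add] at h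
    exact h.symm
  have n1 : T.fA δ₃ δ₁ ≠ 0 := fun e => hb₀ (f₁.map_eq_zero_iff.1 ((smul_eq_zero.1 (by
    rw [c1, e, zero_smul] : T.fA δ₁ δ₁ • f₁ b₀ = 0)).resolve_left hδ₁))
  have n2 : T.fA δ₃ δ₂ ≠ 0 := fun e => hb₀ (f₂.map_eq_zero_iff.1 ((smul_eq_zero.1 (by
    rw [c2, e, zero_smul] : T.fA δ₂ δ₂ • f₂ b₀ = 0)).resolve_left hδ₂))
  have hexp : δ₃ = (T.fA δ₃ δ₁ / T.fA δ₁ δ₁) • δ₁ + (T.fA δ₃ δ₂ / T.fA δ₂ δ₂) • δ₂ := by
    obtain ⟨e, he, -⟩ := hT.exists_partner hb₀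
    set b := f₃.symm e
    have h := congrArg (T.C b₀) (hsum b)
    rw [map_add, hT.C_tau, hT.C_tau, hT.C_tau] at h
    have e1 : f₁ b = (T.fA δ₃ δ₁ / T.fA δ₁ δ₁) • f₃ b := by
      rw [div_eq_inv_mul, mul_smul, ← c1, inv_smul_smul₀ hδ₁]
    have e2 : f₂ b = (T.fA δ₃ δ₂ / T.fA δ₂ δ₂) • f₃ b := by
      rw [div_eq_inv_mul, mul_smul, ← c2, inv_smul_smul₀ hδ₂]
    rw [e1, e2, LinearEquiv.apply_symm_apply, map_smul, map_smul, LinearMap.smul_apply,
      LinearMap.smul_apply, smul_eq_mul, smul_eq_mul, he, one_smul, mul_one, mul_one] at h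
    exact h
  have hh2 : ∀ b, h₂ b = b := fun b => by
    have h := hh₃ b
    rw [hexp, map_add T.tau, LinearMap.add_apply, LinearMap.add_apply, map_smul T.tau, map_smul T.tau,
      LinearMap.smul_apply, LinearMap.smul_apply, map_add v, map_smul v, map_smul v, hfix1, hh₂] at h
    have e1 := congrArg (T.C' δ₁) h
    have e2 := congrArg (T.C' δ₂) h
    simp only [map_add, map_smul, LinearMap.smul_apply, hT.C'_tau, h12', h21', zero_smul, smul_zero,
      add_zero, zero_add, smul_smul, div_mul_cancel₀ _ hδ₁, div_mul_cancel₀ _ hδ₂] at e1 e2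
    have e1' : b = h₃ b := smul_right_injective B n1 e1
    exact (smul_right_injective B n2 e2).trans e1'.symm
  set K := Submodule.span F ({δ₁, δ₂} : Set A) with hK
  have hKn : NDeg T K := D.ndeg_pair hδ₁ hδ₂ h12'
  have hK2 : finrank F K = 2 := D.finrank_pair hδ₁ hδ₂ h12'
  have hKp := D.ndeg_perp hKn
  refine hgood _ hKp (by have := D.finrank_perpS hKn; omega) v hv fun a ha b => ?_
  obtain ⟨p, q, rfl⟩ := Submodule.mem_span_pair.1 (D.perp_perp hKn ha : a ∈ K)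
  simp only [map_add, map_smul, LinearMap.add_apply, LinearMap.smul_apply, hfix1, hh₂, hh2]

/-- an element preserving two orthogonal anisotropic lines is pure -/
theorem kron_of_pair (D : SpData T H) (hgood : ∀ L, NDeg T L → finrank F L = 2 → Good T H L)
    (hm : Minus T) (hA : finrank F A = 4) {δ c : A} (hδ : T.fA δ δ ≠ 0) (hc : T.fA c c ≠ 0)
    (hδc : T.fA δ c = 0) {g : V ≃ₗ[F] V} (hg : g ∈ H) (h1 : ∀ b, ∃ b', g (T.tau δ b) = T.tau δ b')
    (h2 : ∀ b, ∃ b', g (T.tau c b) = T.tau c b') : IsKron T g := by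
  obtain ⟨f, hf, -⟩ := D.map_of_self hg hδ h1
  obtain ⟨h, hh, -⟩ := D.map_of_self hg hc h2
  refine D.kron_of_split hgood hm hA (D.ndeg_pair hδ hc hδc) (D.finrank_pair hδ hc hδc) hg
    (fun a ha b w => ?_) fun a ha b => D.inS_of_perp (D.ndeg_perp (D.ndeg_pair hδ hc hδc)) fun p hp => ?_
  · obtain ⟨p, q, rfl⟩ := Submodule.mem_span_pair.1 ha
    simp only [map_add, map_smul, LinearMap.add_apply, LinearMap.smul_apply, hf, hh, D.good.C_tau]
    exact add_mem (Submodule.smul_mem _ _ (Submodule.smul_mem _ _ (Submodule.subset_span (Set.mem_insert _ _))))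
      (Submodule.smul_mem _ _ (Submodule.smul_mem _ _ (Submodule.subset_span (Set.mem_insert_of_mem _ rfl))))
  · obtain ⟨r, s, rfl⟩ := Submodule.mem_span_pair.1 (D.perp_perp (D.ndeg_pair hδ hc hδc) hp)
    refine D.C'_add_smul ?_ ?_ r s <;> refine D.good.nondegB _ fun w => ?_
    · rw [← D.good.form_C', ← f.apply_symm_apply w, ← hf, D.isom g hg, D.good.form_tau,
        ha δ (Submodule.subset_span (Set.mem_insert _ _)), zero_mul]
    · rw [← D.good.form_C', ← h.apply_symm_apply w, ← hh, D.isom g hg, D.good.form_tau,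
        ha c (Submodule.subset_span (Set.mem_insert_of_mem _ rfl)), zero_mul]

end SpData

end CfsgLib.MaxSub.TForm
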