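import Cfsg.Agent.Lib.MaxSub.Sp8.MinusKron
import Cfsg.Agent.Lib.MaxSub.TensorSp

/-!
The stabiliser of a tensor decomposition `Sp₂ ⊗ GO₄⁻` is maximal in `Sp₈`, odd characteristic.
-/

set_option autoImplicit false
set_option linter.unusedSectionVars false
set_option linter.unusedSimpArgs false
set_option maxHeartbeats 1000000

namespace CfsgLib.MaxSub.TensorSp

open Matrix
open CfsgLib.MaxSub
open scoped MatrixGroups Kronecker
open CfsgLib.Classical (glLin glLin_apply)

variable {F : Type*} [Field F] [Fintype F] {m : ℕ}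

/-- the stabiliser of `Sp₂ ⊗ GO₄⁻` is maximal in `Sp₈` -/
theorem tensor_symp_minus_maximal (hodd : Odd (Fintype.card F))
    (e : (Fin m ⊕ Fin m) ≃ Fin 2 × Fin 4)
    (P : GL (Fin m ⊕ Fin m) F) (f₁ : (Fin 2 → F) → (Fin 2 → F) → F)
    (f₂ : (Fin 4 → F) → (Fin 4 → F) → F) (hf₁ : Cfsg.Geo.IsSymplecticForm f₁)
    (hf₂ : Cfsg.Geo.IsSymmetricForm f₂)
    (hminus : ¬ Cfsg.Geo.IsPlusTypeOn (fun v : Fin 4 → F => f₂ v v) ⊤)
    (hT : Cfsg.Geo.IsTensorFormStructure id (Cfsg.sympForm m F) f₁ f₂ e P) :
    Cfsg.Geo.IsMaximalIn (Cfsg.spGL m F)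
      (Cfsg.Geo.tensorProductSubgroup 2 4 e P ⊓ Cfsg.spGL m F) := by
  classical
  have h2 : (2 : F) ≠ 0 := Ring.two_ne_zero fun h => by
    rw [FiniteField.even_card_iff_char_two] at h
    obtain ⟨k, hk⟩ := hodd
    omega
  let B₁ : (Fin 2 → F) →ₗ[F] (Fin 2 → F) →ₗ[F] F := LinearMap.mk₂ F f₁ hf₁.bilinear.add_left
    hf₁.bilinear.smul_left hf₁.bilinear.add_right hf₁.bilinear.smul_right
  let B₂ : (Fin 4 → F) →ₗ[F] (Fin 4 → F) →ₗ[F] F := LinearMap.mk₂ F f₂ hf₂.bilinear.add_left
    hf₂.bilinear.smul_left hf₂.bilinear.add_right hf₂.bilinear.smul_right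
  let BV : (Fin m ⊕ Fin m → F) →ₗ[F] (Fin m ⊕ Fin m → F) →ₗ[F] F := LinearMap.mk₂ F (Cfsg.sympForm m F)
    sympForm_add_left sympForm_smul_left (fun v x y => sympForm_add_right x y v)
    (fun c v x => sympForm_smul_right c x v)
  have gram : ∀ {k : ℕ} {f : (Fin k → F) → (Fin k → F) → F}, Cfsg.Geo.IsBilinearForm f →
      ∀ x y, Cfsg.Geo.formOfGram id (Cfsg.Geo.gramMatrix f) x y = f x y :=
    fun {k f} h => TensorFrame.formOfGram_gram _ f h.add_left h.smul_left h.add_right h.smul_right
  obtain ⟨c, hc0, hpure⟩ := TensorFrame.form_pure (fun _ _ => rfl) hT (gram hf₁.bilinear)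
    (gram hf₂.bilinear)
  let tau : (Fin 4 → F) →ₗ[F] (Fin 2 → F) →ₗ[F] (Fin m ⊕ Fin m → F) := (TensorFrame.pure e P).flip
  let fA := B₂
  let fB : (Fin 2 → F) →ₗ[F] (Fin 2 → F) →ₗ[F] F := c • B₁
  choose C hC using fun w : Fin 2 → F => TensorFrame.pure_contract' e P (fB.flip w)
  choose C' hC' using fun x : Fin 4 → F => TensorFrame.pure_contract e P (fA.flip x)
  let T : TForm.Sys F (Fin 4 → F) (Fin 2 → F) (Fin m ⊕ Fin m → F) (RingHom.id F) :=
    { tau := tau, fA := fA, fB := fB, form := BV, C := C, C' := C' }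
  have good : T.Good 1 :=
    { invol := fun _ => rfl
      eps := one_ne_zero
      hermA := fun x y => by
        rw [one_mul, RingHom.id_apply]
        exact hf₂.symm y x
      skewB := fun x y => by
        show c * f₁ y x = -(c * f₁ x y)
        rw [hf₁.skew y x, mul_neg]
      nondegA := fun x hx => by
        by_contra hx0
        obtain ⟨y, hy⟩ := (hf₂.nondegenerate x hx0).2
        exact hy (hx y)
      nondegB := fun x hx => by
        by_contra hx0
        obtain ⟨y, hy⟩ := (hf₁.nondegenerate x hx0).2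
        exact mul_ne_zero hc0 hy (hx y)
      form_tau := fun a b a' b' => by
        show Cfsg.sympForm m F (TensorFrame.pure e P b a) (TensorFrame.pure e P b' a') =
          f₂ a a' * (c * f₁ b b')
        rw [hpure]; ring
      C_tau := fun w a b => hC w a b
      C'_tau := fun x a b => hC' x b a
      span := by
        refine eq_top_iff.2 (le_trans (eq_top_iff.1 (span_pure e P)) (Submodule.span_le.2 ?_))
        rintro _ ⟨⟨b, a⟩, rfl⟩
        exact Submodule.subset_span ⟨(a, b), rfl⟩ }
  -- elements of the stabiliser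
  set K := Cfsg.spGL m F with hK
  set S := Cfsg.Geo.tensorProductSubgroup 2 4 e P with hS
  have tens_apply : ∀ (u : GL (Fin 2) F) (v : GL (Fin 4) F) x y,
      glLin (TensorMax.tensGL e P u v) (tau y x) =
        tau ((v : Matrix (Fin 4) (Fin 4) F) *ᵥ y) ((u : Matrix (Fin 2) (Fin 2) F) *ᵥ x) := by
    intro u v x y
    rw [glLin_apply, TensorMax.tensGL_val]
    show _ *ᵥ TensorFrame.pure e P x y = TensorFrame.pure e P _ _
    rw [TensorFrame.pure_def, TensorFrame.pure_def, mulVec_mulVec, Matrix.mul_assoc, ← Units.val_mul,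
      inv_mul_cancel, Units.val_one, mul_one, ← mulVec_mulVec]
    congr 1
    funext i
    simp only [mulVec, dotProduct, reindex_apply, submatrix_apply, Equiv.symm_symm, Function.comp_apply]
    rw [Equiv.sum_comp e (fun p : Fin 2 × Fin 4 =>
      ((u : Matrix (Fin 2) (Fin 2) F) ⊗ₖ (v : Matrix (Fin 4) (Fin 4) F)) (e i) p * (x p.1 * y p.2)),
      Fintype.sum_prod_type, Finset.sum_mul_sum]
    exact Finset.sum_congr rfl fun p _ => Finset.sum_congr rfl fun r _ => by
      rw [kroneckerMap_apply]; ring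
  have isom_of_pure : ∀ g : GL (Fin m ⊕ Fin m) F,
      (∀ a b a' b', T.form (glLin g (tau a b)) (glLin g (tau a' b')) = T.form (tau a b) (tau a' b')) →
      g ∈ Cfsg.spGL m F := by
    intro g hg x y
    show T.form (glLin g x) (glLin g y) = T.form x y
    refine good.induction (p := fun x => T.form (glLin g x) (glLin g y) = T.form x y) (by simp)
      (fun u u' hu hu' => by simp only [map_add, LinearMap.add_apply, hu, hu']) (fun a b => ?_) x
    exact good.induction (p := fun y => T.form (glLin g (tau a b)) (glLin g y) = T.form (tau a b) y)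
      (by simp) (fun u u' hu hu' => by simp only [map_add, LinearMap.add_apply, hu, hu'])
      (fun a' b' => hg a b a' b') y
  refine ⟨lt_of_le_of_ne inf_le_right ?_, fun M hM1 hM2 => ?_⟩
  swap
  · set H : Subgroup ((Fin m ⊕ Fin m → F) ≃ₗ[F] (Fin m ⊕ Fin m → F)) := M.map glLin.toMonoidHom
      with hHdef
    have D : TForm.SpData T H :=
      { good := good
        isom := by
          rintro _ ⟨g, hg, rfl⟩ x y
          exact hM2 hg x y
        two := h2
        pureA := fun g hg => by
          obtain ⟨v, hv⟩ := (glLin (F := F) (ι := Fin 4)).surjective g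
          have hv' : ∀ x, (v : Matrix (Fin 4) (Fin 4) F) *ᵥ x = g x := fun x => by
            rw [← hv, glLin_apply]
          refine ⟨glLin (TensorMax.tensGL e P 1 v), ⟨_, hM1 ⟨TensorMax.tensGL_mem e P 1 v,
            isom_of_pure _ fun a b a' b' => ?_⟩, rfl⟩, fun a b => ?_⟩
          · rw [tens_apply, tens_apply, hv', hv', Units.val_one, one_mulVec, one_mulVec,
              good.form_tau, good.form_tau, hg]
          · show glLin _ (tau a b) = tau (g a) b
            rw [tens_apply, hv', Units.val_one, one_mulVec]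
        pureB := fun g hg => by
          obtain ⟨v, hv⟩ := (glLin (F := F) (ι := Fin 2)).surjective g
          have hv' : ∀ x, (v : Matrix (Fin 2) (Fin 2) F) *ᵥ x = g x := fun x => by
            rw [← hv, glLin_apply]
          refine ⟨glLin (TensorMax.tensGL e P v 1), ⟨_, hM1 ⟨TensorMax.tensGL_mem e P v 1,
            isom_of_pure _ fun a b a' b' => ?_⟩, rfl⟩, fun a b => ?_⟩
          · rw [tens_apply, tens_apply, hv', hv', Units.val_one, one_mulVec, one_mulVec,
              good.form_tau, good.form_tau, hg]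
          · show glLin _ (tau a b) = tau a (g b)
            rw [tens_apply, hv', Units.val_one, one_mulVec]
        dimA := by rw [Module.finrank_fin_fun]; norm_num
        dimB := by rw [Module.finrank_fin_fun]
        big := fun h => by
          rw [Module.finrank_fin_fun] at h
          omega }
    have hm : TForm.Minus T := fun W hW => by
      by_contra hn
      simp only [not_exists, not_and, not_not] at hn
      exact hminus ⟨W, le_top, hn, by rw [finrank_top, Module.finrank_fin_fun, hW]⟩
    have hq : 3 ≤ Nat.card F := by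
      rw [Nat.card_eq_fintype_card]
      have h1 := Fintype.one_lt_card (α := F)
      obtain ⟨k, hk⟩ := hodd
      omega
    by_cases hno : TForm.NoTvSp T H
    · left
      refine le_antisymm (fun g hg => ⟨?_, hM2 hg⟩) hM1
      obtain ⟨Mf, hf', hgab⟩ : TForm.IsKron T (glLin g) :=
        D.kron_all_four hno hm (Module.finrank_fin_fun F) (Module.finrank_fin_fun F) hq
          (g := glLin g) ⟨g, hg, rfl⟩
      obtain ⟨a₀, ha₀⟩ : ∃ a : Fin 4 → F, a ≠ 0 := ⟨Pi.single ⟨0, by omega⟩ 1, fun e0 => by
        simpa using congrFun e0 ⟨0, by omega⟩⟩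
      obtain ⟨b₀, hb₀⟩ : ∃ b : Fin 2 → F, b ≠ 0 := ⟨Pi.single ⟨0, by omega⟩ 1, fun e0 => by
        simpa using congrFun e0 ⟨0, by omega⟩⟩
      have hMinj : Function.Injective Mf := by
        refine (injective_iff_map_eq_zero Mf).2 fun a ha => ?_
        have h0 : tau a b₀ = 0 := (glLin g).injective (by
          rw [map_zero]
          show glLin g (T.tau a b₀) = 0
          rw [hgab, ha, map_zero, LinearMap.zero_apply])
        by_contra ha0
        exact hb₀ (good.tau_right_inj ha0 (h0.trans (map_zero (tau a)).symm))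
      have hhinj : Function.Injective hf' := by
        refine (injective_iff_map_eq_zero hf').2 fun b hb => ?_
        have h0 : tau a₀ b = 0 := (glLin g).injective (by
          rw [map_zero]
          show glLin g (T.tau a₀ b) = 0
          rw [hgab, hb, map_zero])
        exact good.tau_right_inj ha₀ (h0.trans (map_zero (tau a₀)).symm)
      obtain ⟨v, hv⟩ := (glLin (F := F) (ι := Fin 4)).surjective (LinearEquiv.ofInjectiveEndo Mf hMinj)
      obtain ⟨u, hu⟩ := (glLin (F := F) (ι := Fin 2)).surjective (LinearEquiv.ofInjectiveEndo hf' hhinj)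
      have hge : g = TensorMax.tensGL e P u v := glLin.injective (LinearEquiv.ext fun x =>
        LinearMap.congr_fun (good.ext_tau (f := (glLin g).toLinearMap)
          (g := (glLin (TensorMax.tensGL e P u v)).toLinearMap) fun a b => by
          show glLin g (tau a b) = glLin _ (tau a b)
          rw [tens_apply, ← glLin_apply, ← glLin_apply, hu, hv]
          exact hgab a b) x)
      rw [hge]
      exact TensorMax.tensGL_mem e P u v
    · right
      refine le_antisymm hM2 (spGL_le_of_spFull fun v k => ?_)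
      obtain ⟨_, ⟨g, hg, rfl⟩, hgx⟩ := D.full_all hno v k
      refine ⟨by rw [smul_dotProduct, spDual_dot, sympForm_self, smul_zero], g, hg,
        Matrix.ext_of_mulVec_single fun i => ?_⟩
      rw [spTv_mulVec, ← glLin_apply]
      exact hgx _
  -- a transvection at a pure singular vector is not pure
  intro hEq
  obtain ⟨a, ha0, haa, u, hau⟩ : ∃ a : Fin 4 → F, a ≠ 0 ∧ T.fA a a = 0 ∧ ∃ u, T.fA u a = 1 := by
    obtain ⟨a, ha0, haa⟩ := exists_sing (fA := fA) h2 (fun x y => hf₂.symm y x) good.nondegA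
      (by rw [Module.finrank_fin_fun]; norm_num)
    obtain ⟨u, hu⟩ := (hf₂.nondegenerate a ha0).1
    exact ⟨a, ha0, haa, (f₂ u a)⁻¹ • u, by
      rw [map_smul, LinearMap.smul_apply, smul_eq_mul]; exact inv_mul_cancel₀ hu⟩
  obtain ⟨z, hz0⟩ : ∃ b : Fin 2 → F, b ≠ 0 := ⟨Pi.single ⟨0, by omega⟩ 1, fun e0 => by
    simpa using congrFun e0 ⟨0, by omega⟩⟩
  obtain ⟨b, hbz, hzb⟩ := good.exists_partner hz0
  have hbb : T.fB b b = 0 := by
    show c * f₁ b b = 0
    rw [hf₁.alternating, mul_zero]
  set ν := tau a z with hν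
  have hgK := spTv_mem_spGL ν (1 : F)
  have hgH : tvGL ν ((1 : F) • (Matrix.J (Fin m) F *ᵥ ν)) (spDual_smul_dot 1 ν) ∈ S ⊓ K := by
    rw [hEq]; exact hgK
  obtain ⟨au, bv, hab⟩ := TensorFrame.tensor_mem hgH.1
  have h := hab b u
  rw [coe_tvGL, spTv_mulVec, one_mul] at h
  change T.tau u b + T.form (T.tau u b) (T.tau a z) • T.tau a z = T.tau _ _ at h
  rw [good.form_tau, hau, hbz, one_mul, one_smul] at h
  set A' := (bv : Matrix (Fin 4) (Fin 4) F) *ᵥ u with hA'
  set B' := (au : Matrix (Fin 2) (Fin 2) F) *ᵥ b with hB'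
  have hh1 := congrArg (T.C b) h
  rw [map_add, good.C_tau, good.C_tau, good.C_tau, hbb, hzb, zero_smul, zero_add] at hh1
  have hh2 := congrArg (T.C' a) h
  rw [map_add, good.C'_tau, good.C'_tau, good.C'_tau, haa, hau, zero_smul, add_zero, one_smul] at hh2
  have hh3 : T.fA A' a * T.fB B' b = 0 := by
    have h3 := congrArg (fun y => T.fA y a) hh1
    simp only [map_smul, LinearMap.smul_apply, smul_eq_mul, haa, mul_zero] at h3
    linear_combination -h3
  rcases mul_eq_zero.1 hh3 with h4 | h4
  · rw [h4, zero_smul] at hh2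
    rw [hh2, map_zero, LinearMap.zero_apply] at hbz
    exact zero_ne_one hbz
  · rw [h4, zero_smul] at hh1
    exact ha0 ((smul_eq_zero.1 hh1).resolve_left (neg_ne_zero.2 one_ne_zero))

end CfsgLib.MaxSub.TensorSp
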