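import Cfsg.Agent.Lib.MaxSub.SpUnitary

/-!
Geometry of a symplectic space of dimension at least six with an anti-self-adjoint `j`, `j² = d` a
non-square (the six-dimensional case of `SpUnitThreeGeom`, in any dimension).
-/

set_option autoImplicit false
set_option linter.unusedSectionVars false

namespace CfsgLib.MaxSub

open Matrix
open scoped MatrixGroups

variable {F : Type*} [Field F] {m : ℕ}

local notation "𝕍" => (Fin m ⊕ Fin m → F)
local notation "𝐟" => Cfsg.sympForm m F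

namespace SpAnti

variable {j : Matrix (Fin m ⊕ Fin m) (Fin m ⊕ Fin m) F} {d : F} (A : SpAnti (m := m) j d)
include A

theorem anti'_gen (u v : 𝕍) : 𝐟 u (j *ᵥ v) = -𝐟 (j *ᵥ u) v := by rw [A.anti, neg_neg]

theorem jform_swap_gen (u v : 𝕍) : 𝐟 (j *ᵥ u) v = -𝐟 v (j *ᵥ u) := sympForm_swap _ _

theorem qf_add_gen (x y : 𝕍) : 𝐟 (x + y) (j *ᵥ (x + y)) =
    𝐟 x (j *ᵥ x) + 2 * 𝐟 x (j *ᵥ y) + 𝐟 y (j *ᵥ y) := by
  rw [mulVec_add, sympForm_add_left, sympForm_add_right, sympForm_add_right, A.form_symm y x]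
  ring

theorem qf_smul_gen (x : 𝕍) (c : F) : 𝐟 (c • x) (j *ᵥ (c • x)) = c * c * 𝐟 x (j *ᵥ x) := by
  rw [mulVec_smul, sympForm_smul_left, sympForm_smul_right]; ring

variable [Finite F] (h2 : (2 : F) ≠ 0) (hm : 3 ≤ m)
include h2 hm

/-- a vector of prescribed value orthogonal to a non-degenerate pair -/
theorem exists_perp_value_gen {a b : 𝕍} {α β ρ σ : F} (hα : 𝐟 a (j *ᵥ a) = α) (hβ : 𝐟 b (j *ᵥ b) = β)
    (hρ : 𝐟 a (j *ᵥ b) = ρ) (hσ : 𝐟 a b = σ) (hD : α * β - ρ * ρ + d * σ * σ ≠ 0) (ω : F) (hω : ω ≠ 0) :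
    ∃ w, 𝐟 w a = 0 ∧ 𝐟 w (j *ᵥ a) = 0 ∧ 𝐟 w b = 0 ∧ 𝐟 w (j *ᵥ b) = 0 ∧ 𝐟 w (j *ᵥ w) = ω := by
  classical
  obtain ⟨z, hQ, hza, hzja, hzb, hzjb⟩ : ∃ z, 𝐟 z (j *ᵥ z) ≠ 0 ∧ 𝐟 z a = 0 ∧ 𝐟 z (j *ᵥ a) = 0 ∧
      𝐟 z b = 0 ∧ 𝐟 z (j *ᵥ b) = 0 := by
    by_contra hno
    push Not at hno
    set S : Submodule F 𝕍 := Submodule.span F {a, j *ᵥ a, b, j *ᵥ b} with hSdef
    set W := spPerp S with hWdef
    have hmem : ∀ z, z ∈ W → 𝐟 z a = 0 ∧ 𝐟 z (j *ᵥ a) = 0 ∧ 𝐟 z b = 0 ∧ 𝐟 z (j *ᵥ b) = 0 :=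
      fun z hz => ⟨hz _ (Submodule.subset_span (by simp)), hz _ (Submodule.subset_span (by simp)),
        hz _ (Submodule.subset_span (by simp)), hz _ (Submodule.subset_span (by simp))⟩
    have hW0 : ∀ z ∈ W, 𝐟 z (j *ᵥ z) = 0 := fun z hz => by
      obtain ⟨e1, e2, e3, e4⟩ := hmem z hz
      by_contra e
      exact hno z e e1 e2 e3 e4
    have hWj : ∀ z ∈ W, ∀ w ∈ W, 𝐟 z (j *ᵥ w) = 0 := fun z hz w hw => by
      have e := hW0 (z + w) (add_mem hz hw)
      rw [A.qf_add_gen, hW0 z hz, hW0 w hw, zero_add, add_zero] at e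
      exact (mul_eq_zero.1 e).resolve_left h2
    have hba : 𝐟 b a = -σ := by rw [sympForm_swap, hσ]
    have hbja : 𝐟 b (j *ᵥ a) = ρ := by rw [A.form_symm, hρ]
    have hli : ∀ x ∈ S, x ∈ W → x = 0 := by
      intro x hx hxW
      simp only [S, Submodule.mem_span_insert, Submodule.mem_span_singleton] at hx
      obtain ⟨c0, _, ⟨c1, _, ⟨c2, _, ⟨c3, rfl⟩, rfl⟩, rfl⟩, rfl⟩ := hx
      obtain ⟨e2, e1, e4, e3⟩ := hmem _ hxW
      simp only [sympForm_add_left, sympForm_smul_left, A.form_jj, hα, hβ, hρ, hσ, hba, hbja,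
        sympForm_self, mul_zero, neg_zero, add_zero, zero_add] at e1 e2 e3 e4
      rw [A.anti, A.anti, hα, hbja] at e2
      rw [A.anti, A.anti, hρ, hβ] at e4
      obtain rfl : c2 = 0 := (mul_eq_zero.1 (show c2 * (α * β - ρ * ρ + d * σ * σ) = 0 by
        linear_combination α * e3 - ρ * e1 - d * σ * e2)).resolve_right hD
      obtain rfl : c3 = 0 := (mul_eq_zero.1 (show c3 * (α * β - ρ * ρ + d * σ * σ) = 0 by
        linear_combination -α * e4 + ρ * e2 + σ * e1)).resolve_right hD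
      obtain rfl : c0 = 0 := (mul_eq_zero.1 (show c0 * (α * β - ρ * ρ + d * σ * σ) = 0 by
        linear_combination β * e1 - ρ * e3 + d * σ * e4)).resolve_right hD
      obtain rfl : c1 = 0 := (mul_eq_zero.1 (show c1 * (α * β - ρ * ρ + d * σ * σ) = 0 by
        linear_combination -β * e2 + ρ * e4 - σ * e3)).resolve_right hD
      simp
    have hdim := finrank_le_finrank_spPerp_add S
    have hS4 : Module.finrank F S ≤ 4 := by
      set T : Finset 𝕍 := {a, j *ᵥ a, b, j *ᵥ b} with hT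
      have h := finrank_span_finset_le_card (R := F) T
      have hle : S ≤ Submodule.span F (T : Set 𝕍) := Submodule.span_le.2 (by
        rintro x (rfl | rfl | rfl | rfl) <;> exact Submodule.subset_span (by simp [hT]))
      exact ((Submodule.finrank_mono hle).trans h).trans Finset.card_le_four
    rw [← hWdef] at hdim
    try rw [Fintype.card_sum, Fintype.card_fin] at hdim
    have hinf : S ⊓ W = ⊥ := eq_bot_iff.2 fun x hx => (Submodule.mem_bot F).2 (hli x hx.1 hx.2)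
    have hsup : S ⊔ W = ⊤ := by
      have e := Submodule.finrank_sup_add_finrank_inf_eq S W
      rw [hinf, finrank_bot] at e
      refine Submodule.eq_top_of_finrank_eq (le_antisymm (Submodule.finrank_le _) ?_)
      rw [Module.finrank_pi, Fintype.card_sum, Fintype.card_fin]
      omega
    obtain ⟨z, hzW, hz0⟩ := Submodule.exists_mem_ne_zero_of_ne_bot (p := W)
      (fun e => by rw [e, finrank_bot] at hdim; omega)
    -- `j` preserves `W`
    have hjW : ∀ w ∈ W, j *ᵥ w ∈ W := fun w hw x hx => by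
      refine (Submodule.span_le (p := LinearMap.ker (spLin (j *ᵥ w)))).2 ?_ hx |> sympForm_eq_zero_swap
      obtain ⟨e1, e2, e3, e4⟩ := hmem w hw
      have k1 : ∀ y, 𝐟 w (j *ᵥ y) = 0 → 𝐟 y (j *ᵥ w) = 0 := fun y e => by rw [A.form_symm]; exact e
      rintro y (rfl | rfl | rfl | rfl)
      · exact k1 _ e2
      · exact show 𝐟 (j *ᵥ a) (j *ᵥ w) = 0 by rw [A.form_jj, sympForm_eq_zero_swap e1, mul_zero, neg_zero]
      · exact k1 _ e4
      · exact show 𝐟 (j *ᵥ b) (j *ᵥ w) = 0 by rw [A.form_jj, sympForm_eq_zero_swap e3, mul_zero, neg_zero]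
    refine hz0 (CfsgLib.Geom.sympBilin_sep z fun y => ?_)
    rw [CfsgLib.Geom.sympBilin_apply]
    obtain ⟨s, hs, w, hw, rfl⟩ := Submodule.mem_sup.1 (show y ∈ S ⊔ W by rw [hsup]; trivial)
    rw [sympForm_add_right, hzW s hs, zero_add]
    have e := hWj z hzW _ (hjW w hw)
    rw [A.sq, sympForm_smul_right] at e
    exact (mul_eq_zero.1 e).resolve_left A.d_ne
  have hjza : 𝐟 (j *ᵥ z) a = 0 := by rw [A.anti, hzja, neg_zero]
  have hjzb : 𝐟 (j *ᵥ z) b = 0 := by rw [A.anti, hzjb, neg_zero]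
  have hjzja : 𝐟 (j *ᵥ z) (j *ᵥ a) = 0 := by rw [A.form_jj, hza, mul_zero, neg_zero]
  have hjzjb : 𝐟 (j *ᵥ z) (j *ᵥ b) = 0 := by rw [A.form_jj, hzb, mul_zero, neg_zero]
  obtain ⟨x, y, hxy⟩ : ∃ x y : F, x * x - d * (y * y) = ω / 𝐟 z (j *ᵥ z) := by
    have := Fintype.ofFinite F
    obtain ⟨x, y, h⟩ := FiniteField.exists_root_sum_quadratic
      (f := Polynomial.X ^ 2) (g := Polynomial.C (-d) * Polynomial.X ^ 2 + Polynomial.C (-(ω / 𝐟 z (j *ᵥ z))))
      (Polynomial.degree_X_pow 2)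
      (Polynomial.degree_add_C (by rw [Polynomial.degree_C_mul_X_pow 2 (neg_ne_zero.2 A.d_ne)]; norm_num) |>.trans
        (Polynomial.degree_C_mul_X_pow 2 (neg_ne_zero.2 A.d_ne)))
      (FiniteField.odd_card_of_char_ne_two fun hc => h2 (by
        have := ringChar.spec F 2
        rw [hc] at this
        exact_mod_cast this.2 dvd_rfl))
    simp only [Polynomial.eval_add, Polynomial.eval_mul, Polynomial.eval_C, Polynomial.eval_pow,
      Polynomial.eval_X] at h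
    exact ⟨x, y, by linear_combination h⟩
  refine ⟨x • z + y • (j *ᵥ z), ?_, ?_, ?_, ?_, ?_⟩
  · simp [sympForm_add_left, sympForm_smul_left, hza, hjza]
  · simp [sympForm_add_left, sympForm_smul_left, hzja, hjzja]
  · simp [sympForm_add_left, sympForm_smul_left, hzb, hjzb]
  · simp [sympForm_add_left, sympForm_smul_left, hzjb, hjzjb]
  · rw [eq_div_iff hQ] at hxy
    simp only [mulVec_add, mulVec_smul, A.sq, sympForm_add_left, sympForm_add_right, sympForm_smul_left,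
      sympForm_smul_right, sympForm_self, A.anti z (j *ᵥ z)]
    have e : 𝐟 (j *ᵥ z) z = -𝐟 z (j *ᵥ z) := sympForm_swap _ _
    linear_combination hxy + y * y * d * e

/-- the reflection in an anisotropic `F[j]`-line -/
theorem exists_refl_gen {x : 𝕍} {q : F} (hq : 𝐟 x (j *ᵥ x) = q) (hq0 : q ≠ 0) :
    ∃ g ∈ Cfsg.spGL m F, (∀ y, (g : Matrix _ _ F) *ᵥ (j *ᵥ y) = j *ᵥ ((g : Matrix _ _ F) *ᵥ y)) ∧
      ∀ y, (g : Matrix _ _ F) *ᵥ y =
        y - (2 / q * 𝐟 y (j *ᵥ x)) • x + (2 / q * 𝐟 y x) • (j *ᵥ x) := by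
  let L : 𝕍 →ₗ[F] 𝕍 := LinearMap.id - ((2 / q) • spLin (j *ᵥ x)).smulRight x
    + ((2 / q) • spLin x).smulRight (j *ᵥ x)
  have hL : ∀ y, L y = y - (2 / q * 𝐟 y (j *ᵥ x)) • x + (2 / q * 𝐟 y x) • (j *ᵥ x) := fun y => rfl
  have hxj : 𝐟 (j *ᵥ x) x = -q := by rw [sympForm_swap, hq]
  have hinv : ∀ y, L (L y) = y := fun y => by
    rw [hL (L y), hL y]
    simp only [sub_eq_add_neg, ← neg_smul, sympForm_add_left, sympForm_smul_left, hq, hxj, sympForm_self]
    match_scalars <;> field_simp <;> ring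
  have hmul : LinearMap.toMatrix' L * LinearMap.toMatrix' L = 1 := by
    rw [← LinearMap.toMatrix'_comp, show L ∘ₗ L = LinearMap.id from LinearMap.ext hinv, LinearMap.toMatrix'_id]
  refine ⟨⟨LinearMap.toMatrix' L, LinearMap.toMatrix' L, hmul, hmul⟩, fun u v => ?_, fun y => ?_, fun y => ?_⟩
  · simp only [Units.coeHom_apply, LinearMap.toMatrix'_mulVec]
    show 𝐟 (L u) (L v) = 𝐟 u v
    rw [hL, hL]
    simp only [sub_eq_add_neg, ← neg_smul, sympForm_add_left, sympForm_add_right, sympForm_smul_left,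
      sympForm_smul_right, hq, hxj, sympForm_self, sympForm_swap v x, sympForm_swap v (j *ᵥ x)]
    field_simp
    ring
  · simp only [LinearMap.toMatrix'_mulVec]
    rw [hL, hL, mulVec_add, mulVec_sub, mulVec_smul, mulVec_smul, A.sq, A.form_jj, A.anti]
    module
  · rw [LinearMap.toMatrix'_mulVec, hL]

/-- isotropic vectors are linked by pairs with `f(v, jw) = 0` -/
theorem iso_connected_gen {Pr : 𝕍 → Prop}
    (step : ∀ v w, 𝐟 v (j *ᵥ v) = 0 → 𝐟 w (j *ᵥ w) = 0 → 𝐟 v (j *ᵥ w) = 0 → 𝐟 v w ≠ 0 → Pr v → Pr w)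
    {v : 𝕍} (hv0 : v ≠ 0) (hv : 𝐟 v (j *ᵥ v) = 0) (hPv : Pr v) :
    ∀ w, w ≠ 0 → 𝐟 w (j *ᵥ w) = 0 → Pr w := by
  -- two vectors seeing each other
  have near : ∀ v w, 𝐟 v (j *ᵥ v) = 0 → 𝐟 w (j *ᵥ w) = 0 →
      (𝐟 v w ≠ 0 ∨ 𝐟 v (j *ᵥ w) ≠ 0) → Pr v → Pr w := by
    intro v w hv hw hne hP
    set r := 𝐟 v (j *ᵥ w) with hr
    set s := 𝐟 v w with hs
    by_cases hr0 : r = 0
    · exact step v w hv hw hr0 (hne.resolve_right fun h => h hr0) hP
    have hN : r * r - d * (s * s) ≠ 0 := by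
      intro h
      rcases eq_or_ne s 0 with hs0 | hs0
      · rw [hs0] at h; exact hr0 (mul_self_eq_zero.1 (by linear_combination h))
      · exact A.nonsq (r / s) (by field_simp; linear_combination h)
    have hwv : 𝐟 w v = -s := by rw [sympForm_swap, hs]
    have hwjv : 𝐟 w (j *ᵥ v) = r := by rw [A.form_symm, hr]
    set N := r * r - d * (s * s) with hNdef
    obtain ⟨z, hzv, hzjv, hzw, hzjw, hz⟩ := A.exists_perp_value_gen h2 hm hv hw hr.symm hs.symm
      (by intro h; exact hN (by rw [hNdef]; linear_combination -h)) (-(2 * r / N))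
      (neg_ne_zero.2 (div_ne_zero (mul_ne_zero h2 hr0) hN))
    set u₀ := (r / N) • v + (s / N) • (j *ᵥ v) + (r / N) • w + (-(s / N)) • (j *ᵥ w) with hu₀
    have f1 : 𝐟 u₀ v = 0 := by
      simp only [hu₀, sympForm_add_left, sympForm_smul_left, sympForm_self, hwv, A.anti, hv, hwjv]
      field_simp
      ring
    have f2 : 𝐟 u₀ w = 0 := by
      simp only [hu₀, sympForm_add_left, sympForm_smul_left, sympForm_self, ← hs, A.anti, ← hr, hw]
      field_simp
      ring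
    have f3 : 𝐟 u₀ (j *ᵥ v) = 1 := by
      simp only [hu₀, sympForm_add_left, sympForm_smul_left, sympForm_self, hv, hwjv, A.form_jj, hwv]
      field_simp
      rw [hNdef]; ring
    have f4 : 𝐟 u₀ (j *ᵥ w) = 1 := by
      simp only [hu₀, sympForm_add_left, sympForm_smul_left, sympForm_self, hw, ← hr, A.form_jj, ← hs]
      field_simp
      rw [hNdef]; ring
    have f5 : 𝐟 u₀ (j *ᵥ u₀) = 2 * r / N := by
      have e : j *ᵥ u₀ = j *ᵥ ((r / N) • v + (s / N) • (j *ᵥ v) + (r / N) • w + (-(s / N)) • (j *ᵥ w)) := by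
        rw [← hu₀]
      rw [e]
      simp only [mulVec_add, mulVec_smul, A.sq, sympForm_add_right, sympForm_smul_right, f1, f2, f3, f4]
      ring
    have f6 : 𝐟 u₀ (j *ᵥ z) = 0 := by
      rw [A.form_symm, hu₀]
      simp [mulVec_add, mulVec_smul, A.sq, sympForm_add_right, sympForm_smul_right, hzv, hzjv, hzw, hzjw, -neg_smul]
    set u := u₀ + z with hu
    have hQu : 𝐟 u (j *ᵥ u) = 0 := by rw [hu, A.qf_add_gen, f5, f6, hz]; ring
    have g1 : 𝐟 u v = 0 := by rw [hu, sympForm_add_left, f1, hzv, add_zero]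
    have g2 : 𝐟 u w = 0 := by rw [hu, sympForm_add_left, f2, hzw, add_zero]
    have g3 : 𝐟 u (j *ᵥ v) = 1 := by rw [hu, sympForm_add_left, f3, hzjv, add_zero]
    have g4 : 𝐟 u (j *ᵥ w) = 1 := by rw [hu, sympForm_add_left, f4, hzjw, add_zero]
    have hju : 𝐟 (j *ᵥ u) (j *ᵥ (j *ᵥ u)) = 0 := by
      rw [A.sq, sympForm_smul_right, A.anti, hQu, neg_zero, mul_zero]
    have hP' : Pr (j *ᵥ u) := step v (j *ᵥ u) hv hju
      (by rw [A.sq, sympForm_smul_right, sympForm_eq_zero_swap g1, mul_zero])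
      (by rw [A.form_symm, g3]; exact one_ne_zero) hP
    exact step (j *ᵥ u) w hju hw (by rw [A.form_jj, g2, mul_zero, neg_zero])
      (by rw [A.anti, g4]; exact neg_ne_zero.2 one_ne_zero) hP'
  -- vectors seeing a given one
  have exists_sees : ∀ v : 𝕍, v ≠ 0 → ∃ u, 𝐟 u (j *ᵥ u) = 0 ∧ 𝐟 v (j *ᵥ u) ≠ 0 := by
    intro v hv0
    have hjv0 : j *ᵥ v ≠ 0 := fun h => hv0 (by
      have := A.sq v; rw [h, mulVec_zero] at this; exact (smul_eq_zero.1 this.symm).resolve_left A.d_ne)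
    obtain ⟨u, -, hQu, hu⟩ := exists_singular_avoid (A.quadForm h2) h2 (W := ⊤)
      (P := LinearMap.ker (spLin (j *ᵥ v))) (by
        rw [finrank_top, Module.finrank_pi, Fintype.card_sum, Fintype.card_fin]; omega) (by
        intro hle
        exact hjv0 (CfsgLib.Geom.sympBilin_sep _ fun y => by
          rw [CfsgLib.Geom.sympBilin_apply]; exact sympForm_eq_zero_swap (hle (x := y) trivial)))
    exact ⟨u, hQu, by rw [A.form_symm]; exact hu⟩
  let Sees : 𝕍 → 𝕍 → Prop := fun x y => 𝐟 x y ≠ 0 ∨ 𝐟 x (j *ᵥ y) ≠ 0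
  have seesSymm : ∀ x y, Sees x y → Sees y x := fun x y h =>
    h.imp (fun e e' => e (sympForm_eq_zero_swap e')) (fun e => by rwa [A.form_symm])
  intro w hw0 hw
  obtain ⟨u, hu, huv⟩ := exists_sees v hv0
  obtain ⟨t, ht, htw⟩ := exists_sees w hw0
  have hPu := near v u hv hu (Or.inr huv) hPv
  by_cases h1 : Sees u w
  · exact near u w hu hw h1 hPu
  by_cases h2' : Sees v t
  · exact near t w ht hw (seesSymm _ _ (Or.inr htw)) (near v t hv ht h2' hPv)
  by_cases h3 : Sees u t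
  · exact near t w ht hw (seesSymm _ _ (Or.inr htw)) (near u t hu ht h3 hPu)
  simp only [Sees, not_or, not_not] at h1 h2' h3
  have hsum : 𝐟 (u + t) (j *ᵥ (u + t)) = 0 := by rw [A.qf_add_gen, hu, ht, h3.2]; ring
  refine near (u + t) w hsum hw (Or.inr ?_) (near v (u + t) hv hsum (Or.inr ?_) hPv)
  · rw [sympForm_add_left, h1.2, zero_add, A.form_symm]; exact htw
  · rw [mulVec_add, sympForm_add_right, h2'.2, add_zero]; exact huv

end SpAnti

end CfsgLib.MaxSub
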